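import Mathlib.Data.Nat.Notation

set_option autoImplicit false
set_option linter.all false

/-!
Data for the automorphisms of Fi23: an element of order 13 and the suborbit points it fixes or cycles.
-/

namespace CfsgLib.CosetEnum.Fi23.Aut

/-- A word for an element of order 13. -/
def xw : List ℕ := [5, 4, 5, 8, 3, 9, 2, 0, 5, 1]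

/-- An ordering of the nodes. -/
def ord : List ℕ := [0, 1, 2, 4, 5, 6, 7, 8, 3, 9]

/-- The points of the nodes, by node number. -/
def nodePt : List ℕ := [11589, 8004, 8003, 8000, 8001, 8002, 8005, 8006, 7999, 8007]

/-- The numbers of candidates. -/
def cnt : List ℕ := [31671, 28160, 3159, 63, 32, 15, 8, 3, 2, 1]

/-- Cycle representatives with words to them. -/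
def reps : List (ℕ × List ℕ) := [
  (52, [7, 6, 5, 4, 3, 2, 8, 3, 4, 5, 6, 7]),
  (72, [7, 6, 5, 4, 3, 2, 1, 8, 3, 4, 5, 6, 7]),
  (76, [7, 6, 5, 4, 3, 2, 8, 3, 4, 5, 6, 7, 9]),
  (91, [7, 6, 5, 4, 3, 2, 1, 0, 8, 3, 4, 5, 6, 7]),
  (101, [7, 6, 5, 4, 3, 2, 1, 8, 3, 2, 4, 5, 6, 7]),
  (129, [7, 6, 5, 4, 3, 2, 1, 0, 8, 3, 2, 4, 5, 6, 7]),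
  (134, [7, 6, 5, 4, 3, 2, 1, 0, 8, 3, 4, 5, 6, 7, 9]),
  (141, [7, 6, 5, 4, 3, 2, 1, 8, 3, 2, 4, 3, 5, 6, 7]),
  (154, [7, 6, 5, 4, 3, 2, 1, 8, 3, 4, 5, 6, 7, 9, 8]),
  (159, [7, 6, 5, 4, 3, 2, 8, 3, 4, 5, 6, 7, 9, 8, 3]),
  (183, [7, 6, 5, 4, 3, 2, 1, 0, 8, 3, 2, 4, 3, 5, 6, 7]),
  (202, [7, 6, 5, 4, 3, 2, 1, 8, 3, 2, 4, 3, 5, 4, 6, 7]),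
  (208, [7, 6, 5, 4, 3, 2, 1, 8, 3, 2, 4, 3, 5, 6, 7, 8]),
  (217, [7, 6, 5, 4, 3, 2, 1, 8, 3, 2, 4, 5, 6, 7, 9, 8]),
  (225, [7, 6, 5, 4, 3, 2, 1, 8, 3, 4, 5, 6, 7, 9, 8, 3]),
  (231, [7, 6, 5, 4, 3, 2, 8, 3, 4, 5, 6, 7, 9, 8, 3, 2]),
  (232, [7, 6, 5, 4, 3, 2, 8, 3, 4, 5, 6, 7, 9, 8, 3, 4]),
  (264, [7, 6, 5, 4, 3, 2, 1, 0, 8, 3, 2, 4, 3, 5, 4, 6, 7]),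
  (270, [7, 6, 5, 4, 3, 2, 1, 0, 8, 3, 2, 4, 3, 5, 6, 7, 8]),
  (271, [7, 6, 5, 4, 3, 2, 1, 0, 8, 3, 2, 4, 3, 5, 6, 7, 9]),
  (287, [7, 6, 5, 4, 3, 2, 1, 0, 8, 3, 4, 5, 6, 7, 9, 8, 3]),
  (293, [7, 6, 5, 4, 3, 2, 1, 8, 3, 2, 4, 3, 5, 4, 6, 5, 7]),
  (296, [7, 6, 5, 4, 3, 2, 1, 8, 3, 2, 4, 3, 5, 4, 6, 7, 8]),
  (305, [7, 6, 5, 4, 3, 2, 1, 8, 3, 2, 4, 3, 5, 6, 7, 8, 9]),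
  (306, [7, 6, 5, 4, 3, 2, 1, 8, 3, 2, 4, 3, 5, 6, 7, 9, 8]),
  (317, [7, 6, 5, 4, 3, 2, 1, 8, 3, 2, 4, 5, 6, 7, 9, 8, 3]),
  (328, [7, 6, 5, 4, 3, 2, 1, 8, 3, 4, 5, 6, 7, 9, 8, 3, 2]),
  (337, [7, 6, 5, 4, 3, 2, 8, 3, 4, 5, 6, 7, 9, 8, 3, 2, 4]),
  (350, [7, 6, 5, 4, 3, 2, 1, 0, 8, 3, 2, 1, 4, 3, 2, 5, 6, 7]),
  (367, [7, 6, 5, 4, 3, 2, 1, 0, 8, 3, 2, 1, 4, 3, 5, 6, 7, 8]),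
  (389, [7, 6, 5, 4, 3, 2, 1, 0, 8, 3, 2, 4, 3, 5, 4, 6, 7, 8]),
  (390, [7, 6, 5, 4, 3, 2, 1, 0, 8, 3, 2, 4, 3, 5, 4, 6, 7, 9]),
  (398, [7, 6, 5, 4, 3, 2, 1, 0, 8, 3, 2, 4, 3, 5, 6, 7, 8, 9]),
  (410, [7, 6, 5, 4, 3, 2, 1, 0, 8, 3, 2, 4, 5, 6, 7, 9, 8, 3]),
  (421, [7, 6, 5, 4, 3, 2, 1, 0, 8, 3, 4, 5, 6, 7, 9, 8, 3, 2]),
  (422, [7, 6, 5, 4, 3, 2, 1, 0, 8, 3, 4, 5, 6, 7, 9, 8, 3, 4]),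
  (429, [7, 6, 5, 4, 3, 2, 1, 8, 3, 2, 4, 3, 5, 4, 6, 5, 7, 6]),
  (435, [7, 6, 5, 4, 3, 2, 1, 8, 3, 2, 4, 3, 5, 4, 6, 7, 8, 3]),
  (436, [7, 6, 5, 4, 3, 2, 1, 8, 3, 2, 4, 3, 5, 4, 6, 7, 8, 9]),
  (437, [7, 6, 5, 4, 3, 2, 1, 8, 3, 2, 4, 3, 5, 4, 6, 7, 9, 8]),
  (448, [7, 6, 5, 4, 3, 2, 1, 8, 3, 2, 4, 3, 5, 6, 7, 8, 9, 8]),
  (449, [7, 6, 5, 4, 3, 2, 1, 8, 3, 2, 4, 3, 5, 6, 7, 9, 8, 3]),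
  (466, [7, 6, 5, 4, 3, 2, 1, 8, 3, 2, 4, 5, 6, 7, 9, 8, 3, 2]),
  (467, [7, 6, 5, 4, 3, 2, 1, 8, 3, 2, 4, 5, 6, 7, 9, 8, 3, 4]),
  (490, [7, 6, 5, 4, 3, 2, 8, 3, 4, 5, 6, 7, 9, 8, 3, 2, 1, 0]),
  (492, [7, 6, 5, 4, 3, 2, 8, 3, 4, 5, 6, 7, 9, 8, 3, 2, 4, 3]),
  (494, [7, 6, 5, 4, 3, 2, 8, 3, 4, 5, 6, 7, 9, 8, 3, 4, 5, 6]),
  (504, [7, 6, 5, 4, 3, 2, 1, 0, 8, 3, 2, 1, 4, 3, 2, 5, 4, 6, 7]),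
  (509, [7, 6, 5, 4, 3, 2, 1, 0, 8, 3, 2, 1, 4, 3, 2, 5, 6, 7, 8]),
  (525, [7, 6, 5, 4, 3, 2, 1, 0, 8, 3, 2, 1, 4, 3, 5, 4, 6, 7, 8]),
  (560, [7, 6, 5, 4, 3, 2, 1, 0, 8, 3, 2, 4, 3, 5, 4, 6, 5, 7, 6]),
  (562, [7, 6, 5, 4, 3, 2, 1, 0, 8, 3, 2, 4, 3, 5, 4, 6, 5, 7, 9]),
  (578, [7, 6, 5, 4, 3, 2, 1, 0, 8, 3, 2, 4, 3, 5, 6, 7, 8, 9, 8]),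
  (579, [7, 6, 5, 4, 3, 2, 1, 0, 8, 3, 2, 4, 3, 5, 6, 7, 9, 8, 3]),
  (596, [7, 6, 5, 4, 3, 2, 1, 0, 8, 3, 2, 4, 5, 6, 7, 9, 8, 3, 2]),
  (620, [7, 6, 5, 4, 3, 2, 1, 8, 3, 2, 4, 3, 5, 4, 6, 5, 7, 6, 8]),
  (621, [7, 6, 5, 4, 3, 2, 1, 8, 3, 2, 4, 3, 5, 4, 6, 5, 7, 6, 9]),
  (622, [7, 6, 5, 4, 3, 2, 1, 8, 3, 2, 4, 3, 5, 4, 6, 5, 7, 8, 3]),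
  (630, [7, 6, 5, 4, 3, 2, 1, 8, 3, 2, 4, 3, 5, 4, 6, 7, 8, 3, 2]),
  (631, [7, 6, 5, 4, 3, 2, 1, 8, 3, 2, 4, 3, 5, 4, 6, 7, 8, 3, 9]),
  (633, [7, 6, 5, 4, 3, 2, 1, 8, 3, 2, 4, 3, 5, 4, 6, 7, 9, 8, 3]),
  (646, [7, 6, 5, 4, 3, 2, 1, 8, 3, 2, 4, 3, 5, 6, 7, 8, 9, 8, 3]),
  (647, [7, 6, 5, 4, 3, 2, 1, 8, 3, 2, 4, 3, 5, 6, 7, 9, 8, 3, 2]),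
  (648, [7, 6, 5, 4, 3, 2, 1, 8, 3, 2, 4, 3, 5, 6, 7, 9, 8, 3, 4]),
  (674, [7, 6, 5, 4, 3, 2, 1, 8, 3, 2, 4, 5, 6, 7, 9, 8, 3, 2, 4]),
  (691, [7, 6, 5, 4, 3, 2, 1, 8, 3, 4, 5, 6, 7, 9, 8, 3, 2, 1, 0]),
  (707, [7, 6, 5, 4, 3, 2, 8, 3, 4, 5, 6, 7, 9, 8, 3, 2, 4, 5, 6]),
  (714, [7, 6, 5, 4, 3, 2, 1, 0, 8, 3, 2, 1, 4, 3, 2, 5, 4, 3, 6, 7]),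
  (717, [7, 6, 5, 4, 3, 2, 1, 0, 8, 3, 2, 1, 4, 3, 2, 5, 4, 6, 5, 7]),
  (743, [7, 6, 5, 4, 3, 2, 1, 0, 8, 3, 2, 1, 4, 3, 5, 4, 6, 5, 7, 6]),
  (760, [7, 6, 5, 4, 3, 2, 1, 0, 8, 3, 2, 1, 4, 3, 5, 6, 7, 9, 8, 3]),
  (800, [7, 6, 5, 4, 3, 2, 1, 0, 8, 3, 2, 4, 3, 5, 4, 6, 5, 7, 6, 9]),
  (824, [7, 6, 5, 4, 3, 2, 1, 0, 8, 3, 2, 4, 3, 5, 6, 7, 8, 9, 8, 3]),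
  (825, [7, 6, 5, 4, 3, 2, 1, 0, 8, 3, 2, 4, 3, 5, 6, 7, 9, 8, 3, 2]),
  (826, [7, 6, 5, 4, 3, 2, 1, 0, 8, 3, 2, 4, 3, 5, 6, 7, 9, 8, 3, 4]),
  (852, [7, 6, 5, 4, 3, 2, 1, 0, 8, 3, 2, 4, 5, 6, 7, 9, 8, 3, 2, 4]),
  (873, [7, 6, 5, 4, 3, 2, 1, 0, 8, 3, 4, 5, 6, 7, 9, 8, 3, 4, 5, 6]),
  (883, [7, 6, 5, 4, 3, 2, 1, 8, 3, 2, 4, 3, 5, 4, 6, 5, 7, 6, 8, 3]),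
  (884, [7, 6, 5, 4, 3, 2, 1, 8, 3, 2, 4, 3, 5, 4, 6, 5, 7, 6, 8, 9]),
  (886, [7, 6, 5, 4, 3, 2, 1, 8, 3, 2, 4, 3, 5, 4, 6, 5, 7, 8, 3, 2]),
  (890, [7, 6, 5, 4, 3, 2, 1, 8, 3, 2, 4, 3, 5, 4, 6, 5, 7, 9, 8, 3]),
  (902, [7, 6, 5, 4, 3, 2, 1, 8, 3, 2, 4, 3, 5, 4, 6, 7, 8, 9, 8, 3]),
  (903, [7, 6, 5, 4, 3, 2, 1, 8, 3, 2, 4, 3, 5, 4, 6, 7, 9, 8, 3, 2]),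
  (918, [7, 6, 5, 4, 3, 2, 1, 8, 3, 2, 4, 3, 5, 6, 7, 8, 9, 8, 3, 2]),
  (919, [7, 6, 5, 4, 3, 2, 1, 8, 3, 2, 4, 3, 5, 6, 7, 8, 9, 8, 3, 4]),
  (921, [7, 6, 5, 4, 3, 2, 1, 8, 3, 2, 4, 3, 5, 6, 7, 9, 8, 3, 2, 4]),
  (958, [7, 6, 5, 4, 3, 2, 1, 8, 3, 2, 4, 5, 6, 7, 9, 8, 3, 2, 1, 0]),
  (961, [7, 6, 5, 4, 3, 2, 1, 8, 3, 2, 4, 5, 6, 7, 9, 8, 3, 2, 4, 5]),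
  (962, [7, 6, 5, 4, 3, 2, 1, 8, 3, 2, 4, 5, 6, 7, 9, 8, 3, 4, 5, 6]),
  (979, [7, 6, 5, 4, 3, 2, 1, 8, 3, 4, 5, 6, 7, 9, 8, 3, 2, 1, 0, 4]),
  (984, [7, 6, 5, 4, 3, 2, 1, 8, 3, 4, 5, 6, 7, 9, 8, 3, 2, 4, 5, 6]),
  (990, [7, 6, 5, 4, 3, 2, 8, 3, 4, 5, 6, 7, 9, 8, 3, 2, 1, 0, 4, 3]),
  (995, [7, 6, 5, 4, 3, 2, 8, 3, 4, 5, 6, 7, 9, 8, 3, 2, 4, 3, 5, 6]),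
  (1053, [7, 6, 5, 4, 3, 2, 1, 0, 8, 3, 2, 1, 4, 3, 5, 4, 6, 7, 9, 8, 3]),
  (1065, [7, 6, 5, 4, 3, 2, 1, 0, 8, 3, 2, 1, 4, 3, 5, 6, 7, 9, 8, 3, 2]),
  (1066, [7, 6, 5, 4, 3, 2, 1, 0, 8, 3, 2, 1, 4, 3, 5, 6, 7, 9, 8, 3, 4]),
  (1122, [7, 6, 5, 4, 3, 2, 1, 0, 8, 3, 2, 4, 3, 5, 4, 6, 5, 7, 6, 8, 3]),
  (1129, [7, 6, 5, 4, 3, 2, 1, 0, 8, 3, 2, 4, 3, 5, 4, 6, 5, 7, 9, 8, 3]),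
  (1138, [7, 6, 5, 4, 3, 2, 1, 0, 8, 3, 2, 4, 3, 5, 4, 6, 7, 8, 3, 9, 8]),
  (1139, [7, 6, 5, 4, 3, 2, 1, 0, 8, 3, 2, 4, 3, 5, 4, 6, 7, 8, 9, 8, 3]),
  (1157, [7, 6, 5, 4, 3, 2, 1, 0, 8, 3, 2, 4, 3, 5, 6, 7, 8, 9, 8, 3, 2]),
  (1158, [7, 6, 5, 4, 3, 2, 1, 0, 8, 3, 2, 4, 3, 5, 6, 7, 8, 9, 8, 3, 4]),
  (1199, [7, 6, 5, 4, 3, 2, 1, 0, 8, 3, 2, 4, 5, 6, 7, 9, 8, 3, 2, 4, 3]),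
  (1201, [7, 6, 5, 4, 3, 2, 1, 0, 8, 3, 2, 4, 5, 6, 7, 9, 8, 3, 4, 5, 6]),
  (1224, [7, 6, 5, 4, 3, 2, 1, 0, 8, 3, 4, 5, 6, 7, 9, 8, 3, 2, 4, 3, 5]),
  (1225, [7, 6, 5, 4, 3, 2, 1, 0, 8, 3, 4, 5, 6, 7, 9, 8, 3, 2, 4, 3, 8]),
  (1226, [7, 6, 5, 4, 3, 2, 1, 0, 8, 3, 4, 5, 6, 7, 9, 8, 3, 2, 4, 5, 6]),
  (1237, [7, 6, 5, 4, 3, 2, 1, 8, 3, 2, 4, 3, 5, 4, 6, 5, 7, 6, 8, 3, 2]),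
  (1240, [7, 6, 5, 4, 3, 2, 1, 8, 3, 2, 4, 3, 5, 4, 6, 5, 7, 6, 8, 9, 8]),
  (1247, [7, 6, 5, 4, 3, 2, 1, 8, 3, 2, 4, 3, 5, 4, 6, 5, 7, 8, 9, 8, 3]),
  (1248, [7, 6, 5, 4, 3, 2, 1, 8, 3, 2, 4, 3, 5, 4, 6, 5, 7, 9, 8, 3, 2]),
  (1249, [7, 6, 5, 4, 3, 2, 1, 8, 3, 2, 4, 3, 5, 4, 6, 5, 7, 9, 8, 3, 4]),
  (1264, [7, 6, 5, 4, 3, 2, 1, 8, 3, 2, 4, 3, 5, 4, 6, 7, 9, 8, 3, 2, 4]),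
  (1284, [7, 6, 5, 4, 3, 2, 1, 8, 3, 2, 4, 3, 5, 6, 7, 8, 9, 8, 3, 2, 4]),
  (1286, [7, 6, 5, 4, 3, 2, 1, 8, 3, 2, 4, 3, 5, 6, 7, 9, 8, 3, 2, 1, 0]),
  (1290, [7, 6, 5, 4, 3, 2, 1, 8, 3, 2, 4, 3, 5, 6, 7, 9, 8, 3, 4, 5, 6]),
  (1337, [7, 6, 5, 4, 3, 2, 1, 8, 3, 2, 4, 5, 6, 7, 9, 8, 3, 2, 1, 0, 4]),
  (1340, [7, 6, 5, 4, 3, 2, 1, 8, 3, 2, 4, 5, 6, 7, 9, 8, 3, 2, 4, 3, 5]),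
  (1342, [7, 6, 5, 4, 3, 2, 1, 8, 3, 2, 4, 5, 6, 7, 9, 8, 3, 2, 4, 5, 6]),
  (1359, [7, 6, 5, 4, 3, 2, 1, 8, 3, 4, 5, 6, 7, 9, 8, 3, 2, 1, 0, 4, 3]),
  (1364, [7, 6, 5, 4, 3, 2, 1, 8, 3, 4, 5, 6, 7, 9, 8, 3, 2, 4, 3, 5, 6]),
  (1373, [7, 6, 5, 4, 3, 2, 8, 3, 4, 5, 6, 7, 9, 8, 3, 2, 4, 3, 5, 4, 6]),
  (1380, [7, 6, 5, 4, 3, 2, 1, 0, 8, 3, 2, 1, 4, 3, 2, 5, 4, 3, 6, 5, 7, 6]),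
  (1405, [7, 6, 5, 4, 3, 2, 1, 0, 8, 3, 2, 1, 4, 3, 2, 5, 6, 7, 9, 8, 3, 2]),
  (1406, [7, 6, 5, 4, 3, 2, 1, 0, 8, 3, 2, 1, 4, 3, 2, 5, 6, 7, 9, 8, 3, 4]),
  (1446, [7, 6, 5, 4, 3, 2, 1, 0, 8, 3, 2, 1, 4, 3, 5, 4, 6, 5, 7, 9, 8, 3]),
  (1453, [7, 6, 5, 4, 3, 2, 1, 0, 8, 3, 2, 1, 4, 3, 5, 4, 6, 7, 8, 9, 8, 3]),
  (1472, [7, 6, 5, 4, 3, 2, 1, 0, 8, 3, 2, 1, 4, 3, 5, 6, 7, 8, 9, 8, 3, 2]),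
  (1561, [7, 6, 5, 4, 3, 2, 1, 0, 8, 3, 2, 4, 3, 5, 4, 6, 5, 7, 6, 8, 9, 8]),
  (1562, [7, 6, 5, 4, 3, 2, 1, 0, 8, 3, 2, 4, 3, 5, 4, 6, 5, 7, 6, 9, 8, 3]),
  (1568, [7, 6, 5, 4, 3, 2, 1, 0, 8, 3, 2, 4, 3, 5, 4, 6, 5, 7, 9, 8, 3, 2]),
  (1579, [7, 6, 5, 4, 3, 2, 1, 0, 8, 3, 2, 4, 3, 5, 4, 6, 7, 8, 3, 9, 8, 3]),
  (1583, [7, 6, 5, 4, 3, 2, 1, 0, 8, 3, 2, 4, 3, 5, 4, 6, 7, 9, 8, 3, 2, 4]),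
  (1611, [7, 6, 5, 4, 3, 2, 1, 0, 8, 3, 2, 4, 3, 5, 6, 7, 9, 8, 3, 2, 4, 3]),
  (1613, [7, 6, 5, 4, 3, 2, 1, 0, 8, 3, 2, 4, 3, 5, 6, 7, 9, 8, 3, 4, 5, 6]),
  (1663, [7, 6, 5, 4, 3, 2, 1, 0, 8, 3, 2, 4, 5, 6, 7, 9, 8, 3, 2, 1, 0, 4]),
  (1668, [7, 6, 5, 4, 3, 2, 1, 0, 8, 3, 2, 4, 5, 6, 7, 9, 8, 3, 2, 4, 5, 6]),
  (1700, [7, 6, 5, 4, 3, 2, 1, 0, 8, 3, 4, 5, 6, 7, 9, 8, 3, 2, 4, 3, 5, 6]),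
  (1716, [7, 6, 5, 4, 3, 2, 1, 8, 3, 2, 4, 3, 5, 4, 6, 5, 7, 6, 8, 3, 4, 9]),
  (1718, [7, 6, 5, 4, 3, 2, 1, 8, 3, 2, 4, 3, 5, 4, 6, 5, 7, 6, 8, 9, 8, 3]),
  (1727, [7, 6, 5, 4, 3, 2, 1, 8, 3, 2, 4, 3, 5, 4, 6, 5, 7, 8, 9, 8, 3, 4]),
  (1729, [7, 6, 5, 4, 3, 2, 1, 8, 3, 2, 4, 3, 5, 4, 6, 5, 7, 9, 8, 3, 2, 4]),
  (1746, [7, 6, 5, 4, 3, 2, 1, 8, 3, 2, 4, 3, 5, 4, 6, 7, 9, 8, 3, 2, 4, 3]),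
  (1748, [7, 6, 5, 4, 3, 2, 1, 8, 3, 2, 4, 3, 5, 4, 6, 7, 9, 8, 3, 4, 5, 6]),
  (1773, [7, 6, 5, 4, 3, 2, 1, 8, 3, 2, 4, 3, 5, 6, 7, 8, 9, 8, 3, 2, 4, 3]),
  (1775, [7, 6, 5, 4, 3, 2, 1, 8, 3, 2, 4, 3, 5, 6, 7, 8, 9, 8, 3, 4, 5, 6]),
  (1777, [7, 6, 5, 4, 3, 2, 1, 8, 3, 2, 4, 3, 5, 6, 7, 9, 8, 3, 2, 1, 4, 3]),
  (1779, [7, 6, 5, 4, 3, 2, 1, 8, 3, 2, 4, 3, 5, 6, 7, 9, 8, 3, 2, 4, 3, 5]),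
  (1840, [7, 6, 5, 4, 3, 2, 1, 8, 3, 2, 4, 5, 6, 7, 9, 8, 3, 2, 1, 0, 4, 3]),
  (1844, [7, 6, 5, 4, 3, 2, 1, 8, 3, 2, 4, 5, 6, 7, 9, 8, 3, 2, 4, 3, 5, 4]),
  (1883, [7, 6, 5, 4, 3, 2, 1, 0, 8, 3, 2, 1, 4, 3, 2, 5, 4, 3, 6, 7, 9, 8, 3]),
  (1892, [7, 6, 5, 4, 3, 2, 1, 0, 8, 3, 2, 1, 4, 3, 2, 5, 4, 6, 5, 7, 9, 8, 3]),
  (1896, [7, 6, 5, 4, 3, 2, 1, 0, 8, 3, 2, 1, 4, 3, 2, 5, 4, 6, 7, 8, 9, 8, 3]),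
  (1897, [7, 6, 5, 4, 3, 2, 1, 0, 8, 3, 2, 1, 4, 3, 2, 5, 4, 6, 7, 9, 8, 3, 2]),
  (1898, [7, 6, 5, 4, 3, 2, 1, 0, 8, 3, 2, 1, 4, 3, 2, 5, 4, 6, 7, 9, 8, 3, 4]),
  (1913, [7, 6, 5, 4, 3, 2, 1, 0, 8, 3, 2, 1, 4, 3, 2, 5, 6, 7, 8, 9, 8, 3, 2]),
  (1916, [7, 6, 5, 4, 3, 2, 1, 0, 8, 3, 2, 1, 4, 3, 2, 5, 6, 7, 9, 8, 3, 2, 4]),
  (1977, [7, 6, 5, 4, 3, 2, 1, 0, 8, 3, 2, 1, 4, 3, 5, 4, 6, 5, 7, 9, 8, 3, 4]),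
  (1986, [7, 6, 5, 4, 3, 2, 1, 0, 8, 3, 2, 1, 4, 3, 5, 4, 6, 7, 8, 9, 8, 3, 2]),
  (2079, [7, 6, 5, 4, 3, 2, 1, 0, 8, 3, 2, 1, 4, 5, 6, 7, 9, 8, 3, 2, 1, 0, 4]),
  (2083, [7, 6, 5, 4, 3, 2, 1, 0, 8, 3, 2, 1, 4, 5, 6, 7, 9, 8, 3, 2, 4, 3, 8]),
  (2084, [7, 6, 5, 4, 3, 2, 1, 0, 8, 3, 2, 1, 4, 5, 6, 7, 9, 8, 3, 2, 4, 5, 6]),
  (2153, [7, 6, 5, 4, 3, 2, 1, 0, 8, 3, 2, 4, 3, 5, 4, 6, 5, 7, 9, 8, 3, 2, 4]),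
  (2175, [7, 6, 5, 4, 3, 2, 1, 0, 8, 3, 2, 4, 3, 5, 4, 6, 7, 9, 8, 3, 4, 5, 6]),
  (2331, [7, 6, 5, 4, 3, 2, 1, 0, 8, 3, 4, 5, 6, 7, 9, 8, 3, 2, 4, 3, 5, 8, 9]),
  (2348, [7, 6, 5, 4, 3, 2, 1, 8, 3, 2, 4, 3, 5, 4, 6, 5, 7, 6, 8, 9, 8, 3, 2]),
  (2351, [7, 6, 5, 4, 3, 2, 1, 8, 3, 2, 4, 3, 5, 4, 6, 5, 7, 6, 9, 8, 3, 2, 4]),
  (2383, [7, 6, 5, 4, 3, 2, 1, 8, 3, 2, 4, 3, 5, 4, 6, 7, 9, 8, 3, 2, 4, 3, 5]),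
  (2385, [7, 6, 5, 4, 3, 2, 1, 8, 3, 2, 4, 3, 5, 4, 6, 7, 9, 8, 3, 2, 4, 5, 6]),
  (2415, [7, 6, 5, 4, 3, 2, 1, 8, 3, 2, 4, 3, 5, 6, 7, 8, 9, 8, 3, 2, 4, 3, 5]),
  (2419, [7, 6, 5, 4, 3, 2, 1, 8, 3, 2, 4, 3, 5, 6, 7, 9, 8, 3, 2, 1, 0, 4, 3]),
  (2529, [7, 6, 5, 4, 3, 2, 1, 0, 8, 3, 2, 1, 4, 3, 2, 5, 4, 3, 6, 5, 7, 9, 8, 3]),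
  (2532, [7, 6, 5, 4, 3, 2, 1, 0, 8, 3, 2, 1, 4, 3, 2, 5, 4, 3, 6, 7, 9, 8, 3, 2]),
  (2553, [7, 6, 5, 4, 3, 2, 1, 0, 8, 3, 2, 1, 4, 3, 2, 5, 4, 6, 7, 8, 9, 8, 3, 4]),
  (2576, [7, 6, 5, 4, 3, 2, 1, 0, 8, 3, 2, 1, 4, 3, 2, 5, 6, 7, 8, 3, 9, 8, 3, 2]),
  (2577, [7, 6, 5, 4, 3, 2, 1, 0, 8, 3, 2, 1, 4, 3, 2, 5, 6, 7, 8, 3, 9, 8, 3, 4]),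
  (2579, [7, 6, 5, 4, 3, 2, 1, 0, 8, 3, 2, 1, 4, 3, 2, 5, 6, 7, 8, 9, 8, 3, 2, 4]),
  (2583, [7, 6, 5, 4, 3, 2, 1, 0, 8, 3, 2, 1, 4, 3, 2, 5, 6, 7, 9, 8, 3, 2, 4, 3]),
  (2585, [7, 6, 5, 4, 3, 2, 1, 0, 8, 3, 2, 1, 4, 3, 2, 5, 6, 7, 9, 8, 3, 4, 5, 6]),
  (2674, [7, 6, 5, 4, 3, 2, 1, 0, 8, 3, 2, 1, 4, 3, 5, 4, 6, 5, 7, 9, 8, 3, 2, 4]),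
  (2739, [7, 6, 5, 4, 3, 2, 1, 0, 8, 3, 2, 1, 4, 3, 5, 6, 7, 9, 8, 3, 2, 4, 3, 8]),
  (2823, [7, 6, 5, 4, 3, 2, 1, 0, 8, 3, 2, 1, 4, 5, 6, 7, 9, 8, 3, 2, 1, 4, 3, 8]),
  (2825, [7, 6, 5, 4, 3, 2, 1, 0, 8, 3, 2, 1, 4, 5, 6, 7, 9, 8, 3, 2, 4, 3, 5, 4]),
  (2937, [7, 6, 5, 4, 3, 2, 1, 0, 8, 3, 2, 4, 3, 5, 4, 6, 7, 8, 9, 8, 3, 4, 5, 6]),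
  (2985, [7, 6, 5, 4, 3, 2, 1, 0, 8, 3, 2, 4, 3, 5, 6, 7, 8, 9, 8, 3, 2, 1, 0, 4]),
  (2989, [7, 6, 5, 4, 3, 2, 1, 0, 8, 3, 2, 4, 3, 5, 6, 7, 8, 9, 8, 3, 2, 4, 3, 8]),
  (2997, [7, 6, 5, 4, 3, 2, 1, 0, 8, 3, 2, 4, 3, 5, 6, 7, 9, 8, 3, 2, 1, 4, 5, 6]),
  (3236, [7, 6, 5, 4, 3, 2, 1, 8, 3, 2, 4, 3, 5, 6, 7, 8, 9, 8, 3, 2, 4, 3, 5, 4]),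
  (3327, [7, 6, 5, 4, 3, 2, 1, 0, 8, 3, 2, 1, 4, 3, 2, 5, 4, 3, 6, 5, 7, 9, 8, 3, 2]),
  (3333, [7, 6, 5, 4, 3, 2, 1, 0, 8, 3, 2, 1, 4, 3, 2, 5, 4, 3, 6, 7, 9, 8, 3, 2, 4]),
  (3353, [7, 6, 5, 4, 3, 2, 1, 0, 8, 3, 2, 1, 4, 3, 2, 5, 4, 6, 5, 7, 9, 8, 3, 2, 4]),
  (3368, [7, 6, 5, 4, 3, 2, 1, 0, 8, 3, 2, 1, 4, 3, 2, 5, 4, 6, 7, 9, 8, 3, 2, 4, 3]),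
  (3400, [7, 6, 5, 4, 3, 2, 1, 0, 8, 3, 2, 1, 4, 3, 2, 5, 6, 7, 8, 3, 9, 8, 3, 2, 4]),
  (3406, [7, 6, 5, 4, 3, 2, 1, 0, 8, 3, 2, 1, 4, 3, 2, 5, 6, 7, 8, 9, 8, 3, 4, 5, 6]),
  (3407, [7, 6, 5, 4, 3, 2, 1, 0, 8, 3, 2, 1, 4, 3, 2, 5, 6, 7, 9, 8, 3, 2, 1, 0, 4]),
  (3410, [7, 6, 5, 4, 3, 2, 1, 0, 8, 3, 2, 1, 4, 3, 2, 5, 6, 7, 9, 8, 3, 2, 4, 3, 5]),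
  (3526, [7, 6, 5, 4, 3, 2, 1, 0, 8, 3, 2, 1, 4, 3, 5, 4, 6, 5, 7, 8, 9, 8, 3, 2, 4]),
  (3557, [7, 6, 5, 4, 3, 2, 1, 0, 8, 3, 2, 1, 4, 3, 5, 4, 6, 7, 9, 8, 3, 2, 4, 3, 5]),
  (3621, [7, 6, 5, 4, 3, 2, 1, 0, 8, 3, 2, 1, 4, 3, 5, 6, 7, 9, 8, 3, 2, 1, 4, 3, 8]),
  (3740, [7, 6, 5, 4, 3, 2, 1, 0, 8, 3, 2, 1, 4, 5, 6, 7, 9, 8, 3, 2, 1, 0, 4, 3, 8]),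
  (3752, [7, 6, 5, 4, 3, 2, 1, 0, 8, 3, 2, 1, 4, 5, 6, 7, 9, 8, 3, 2, 4, 3, 5, 6, 8]),
  (4115, [7, 6, 5, 4, 3, 2, 1, 0, 8, 3, 4, 5, 6, 7, 9, 8, 3, 2, 1, 4, 3, 2, 8, 3, 4]),
  (4256, [7, 6, 5, 4, 3, 2, 1, 0, 8, 3, 2, 1, 4, 3, 2, 5, 4, 3, 6, 7, 9, 8, 3, 4, 5, 6]),
  (4285, [7, 6, 5, 4, 3, 2, 1, 0, 8, 3, 2, 1, 4, 3, 2, 5, 4, 6, 5, 7, 9, 8, 3, 2, 4, 3]),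
  (4306, [7, 6, 5, 4, 3, 2, 1, 0, 8, 3, 2, 1, 4, 3, 2, 5, 4, 6, 7, 9, 8, 3, 2, 4, 3, 5]),
  (4307, [7, 6, 5, 4, 3, 2, 1, 0, 8, 3, 2, 1, 4, 3, 2, 5, 4, 6, 7, 9, 8, 3, 2, 4, 3, 8]),
  (4362, [7, 6, 5, 4, 3, 2, 1, 0, 8, 3, 2, 1, 4, 3, 2, 5, 6, 7, 8, 9, 8, 3, 2, 4, 5, 6]),
  (4364, [7, 6, 5, 4, 3, 2, 1, 0, 8, 3, 2, 1, 4, 3, 2, 5, 6, 7, 9, 8, 3, 2, 1, 0, 4, 3]),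
  (4368, [7, 6, 5, 4, 3, 2, 1, 0, 8, 3, 2, 1, 4, 3, 2, 5, 6, 7, 9, 8, 3, 2, 1, 4, 3, 8]),
  (4369, [7, 6, 5, 4, 3, 2, 1, 0, 8, 3, 2, 1, 4, 3, 2, 5, 6, 7, 9, 8, 3, 2, 1, 4, 5, 6]),
  (4370, [7, 6, 5, 4, 3, 2, 1, 0, 8, 3, 2, 1, 4, 3, 2, 5, 6, 7, 9, 8, 3, 2, 4, 3, 5, 4]),
  (4373, [7, 6, 5, 4, 3, 2, 1, 0, 8, 3, 2, 1, 4, 3, 2, 5, 6, 7, 9, 8, 3, 2, 4, 3, 8, 9]),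
  (4661, [7, 6, 5, 4, 3, 2, 1, 0, 8, 3, 2, 1, 4, 3, 5, 6, 7, 8, 9, 8, 3, 2, 4, 3, 5, 4]),
  (4668, [7, 6, 5, 4, 3, 2, 1, 0, 8, 3, 2, 1, 4, 3, 5, 6, 7, 9, 8, 3, 2, 1, 0, 4, 3, 8]),
  (4681, [7, 6, 5, 4, 3, 2, 1, 0, 8, 3, 2, 1, 4, 3, 5, 6, 7, 9, 8, 3, 2, 4, 3, 5, 8, 9]),
  (4839, [7, 6, 5, 4, 3, 2, 1, 0, 8, 3, 2, 1, 4, 5, 6, 7, 9, 8, 3, 2, 1, 0, 4, 3, 8, 9]),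
  (4849, [7, 6, 5, 4, 3, 2, 1, 0, 8, 3, 2, 1, 4, 5, 6, 7, 9, 8, 3, 2, 1, 4, 3, 5, 6, 8]),
  (4853, [7, 6, 5, 4, 3, 2, 1, 0, 8, 3, 2, 1, 4, 5, 6, 7, 9, 8, 3, 2, 4, 3, 5, 4, 6, 8]),
  (4857, [7, 6, 5, 4, 3, 2, 1, 0, 8, 3, 2, 1, 4, 5, 6, 7, 9, 8, 3, 2, 4, 3, 5, 6, 8, 9]),
  (5212, [7, 6, 5, 4, 3, 2, 1, 0, 8, 3, 2, 4, 5, 6, 7, 9, 8, 3, 2, 1, 4, 3, 2, 8, 3, 4]),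
  (5313, [7, 6, 5, 4, 3, 2, 1, 0, 8, 3, 2, 1, 4, 3, 2, 5, 4, 3, 6, 7, 9, 8, 3, 2, 1, 0, 4]),
  (5359, [7, 6, 5, 4, 3, 2, 1, 0, 8, 3, 2, 1, 4, 3, 2, 5, 4, 6, 5, 7, 9, 8, 3, 2, 1, 0, 4]),
  (5362, [7, 6, 5, 4, 3, 2, 1, 0, 8, 3, 2, 1, 4, 3, 2, 5, 4, 6, 5, 7, 9, 8, 3, 2, 4, 3, 5]),
  (5385, [7, 6, 5, 4, 3, 2, 1, 0, 8, 3, 2, 1, 4, 3, 2, 5, 4, 6, 7, 8, 9, 8, 3, 2, 4, 3, 5]),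
  (5398, [7, 6, 5, 4, 3, 2, 1, 0, 8, 3, 2, 1, 4, 3, 2, 5, 4, 6, 7, 9, 8, 3, 2, 4, 3, 8, 9]),
  (5462, [7, 6, 5, 4, 3, 2, 1, 0, 8, 3, 2, 1, 4, 3, 2, 5, 6, 7, 8, 3, 9, 8, 3, 2, 1, 0, 4]),
  (5465, [7, 6, 5, 4, 3, 2, 1, 0, 8, 3, 2, 1, 4, 3, 2, 5, 6, 7, 8, 3, 9, 8, 3, 2, 4, 3, 5]),
  (5466, [7, 6, 5, 4, 3, 2, 1, 0, 8, 3, 2, 1, 4, 3, 2, 5, 6, 7, 8, 3, 9, 8, 3, 2, 4, 3, 8]),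
  (5467, [7, 6, 5, 4, 3, 2, 1, 0, 8, 3, 2, 1, 4, 3, 2, 5, 6, 7, 8, 3, 9, 8, 3, 2, 4, 5, 6]),
  (5469, [7, 6, 5, 4, 3, 2, 1, 0, 8, 3, 2, 1, 4, 3, 2, 5, 6, 7, 8, 9, 8, 3, 2, 1, 0, 4, 3]),
  (5478, [7, 6, 5, 4, 3, 2, 1, 0, 8, 3, 2, 1, 4, 3, 2, 5, 6, 7, 8, 9, 8, 3, 2, 4, 3, 8, 9]),
  (5480, [7, 6, 5, 4, 3, 2, 1, 0, 8, 3, 2, 1, 4, 3, 2, 5, 6, 7, 9, 8, 3, 2, 1, 0, 4, 3, 2]),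
  (5485, [7, 6, 5, 4, 3, 2, 1, 0, 8, 3, 2, 1, 4, 3, 2, 5, 6, 7, 9, 8, 3, 2, 1, 4, 3, 2, 8]),
  (5491, [7, 6, 5, 4, 3, 2, 1, 0, 8, 3, 2, 1, 4, 3, 2, 5, 6, 7, 9, 8, 3, 2, 4, 3, 5, 4, 6]),
  (5494, [7, 6, 5, 4, 3, 2, 1, 0, 8, 3, 2, 1, 4, 3, 2, 5, 6, 7, 9, 8, 3, 2, 4, 3, 5, 6, 8]),
  (5772, [7, 6, 5, 4, 3, 2, 1, 0, 8, 3, 2, 1, 4, 3, 5, 4, 6, 7, 9, 8, 3, 2, 1, 4, 3, 2, 8]),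
  (5887, [7, 6, 5, 4, 3, 2, 1, 0, 8, 3, 2, 1, 4, 3, 5, 6, 7, 8, 9, 8, 3, 2, 1, 4, 3, 2, 8]),
  (5900, [7, 6, 5, 4, 3, 2, 1, 0, 8, 3, 2, 1, 4, 3, 5, 6, 7, 9, 8, 3, 2, 1, 0, 4, 3, 2, 8]),
  (5904, [7, 6, 5, 4, 3, 2, 1, 0, 8, 3, 2, 1, 4, 3, 5, 6, 7, 9, 8, 3, 2, 1, 0, 4, 3, 8, 9]),
  (5910, [7, 6, 5, 4, 3, 2, 1, 0, 8, 3, 2, 1, 4, 3, 5, 6, 7, 9, 8, 3, 2, 1, 4, 3, 2, 8, 9]),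
  (5914, [7, 6, 5, 4, 3, 2, 1, 0, 8, 3, 2, 1, 4, 3, 5, 6, 7, 9, 8, 3, 2, 1, 4, 3, 5, 6, 8]),
  (6136, [7, 6, 5, 4, 3, 2, 1, 0, 8, 3, 2, 1, 4, 5, 6, 7, 9, 8, 3, 2, 1, 0, 4, 3, 5, 6, 8]),
  (6150, [7, 6, 5, 4, 3, 2, 1, 0, 8, 3, 2, 1, 4, 5, 6, 7, 9, 8, 3, 2, 1, 4, 3, 5, 4, 8, 3]),
  (6160, [7, 6, 5, 4, 3, 2, 1, 0, 8, 3, 2, 1, 4, 5, 6, 7, 9, 8, 3, 2, 4, 3, 5, 4, 8, 3, 9]),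
  (6511, [7, 6, 5, 4, 3, 2, 1, 0, 8, 3, 4, 5, 6, 7, 9, 8, 3, 2, 1, 4, 3, 2, 5, 4, 8, 3, 4]),
  (6580, [7, 6, 5, 4, 3, 2, 1, 0, 8, 3, 2, 1, 4, 3, 2, 5, 4, 3, 6, 7, 9, 8, 3, 2, 4, 3, 8, 9]),
  (6638, [7, 6, 5, 4, 3, 2, 1, 0, 8, 3, 2, 1, 4, 3, 2, 5, 4, 6, 5, 7, 8, 9, 8, 3, 2, 4, 5, 6]),
  (6646, [7, 6, 5, 4, 3, 2, 1, 0, 8, 3, 2, 1, 4, 3, 2, 5, 4, 6, 5, 7, 9, 8, 3, 2, 4, 3, 5, 4]),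
  (6676, [7, 6, 5, 4, 3, 2, 1, 0, 8, 3, 2, 1, 4, 3, 2, 5, 4, 6, 7, 8, 9, 8, 3, 2, 4, 3, 5, 4]),
  (6800, [7, 6, 5, 4, 3, 2, 1, 0, 8, 3, 2, 1, 4, 3, 2, 5, 6, 7, 8, 9, 8, 3, 2, 1, 0, 4, 3, 8]),
  (6816, [7, 6, 5, 4, 3, 2, 1, 0, 8, 3, 2, 1, 4, 3, 2, 5, 6, 7, 9, 8, 3, 2, 1, 0, 4, 3, 2, 8]),
  (7175, [7, 6, 5, 4, 3, 2, 1, 0, 8, 3, 2, 1, 4, 3, 5, 4, 6, 7, 9, 8, 3, 2, 1, 0, 4, 3, 5, 4]),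
  (7356, [7, 6, 5, 4, 3, 2, 1, 0, 8, 3, 2, 1, 4, 3, 5, 6, 7, 9, 8, 3, 2, 1, 0, 4, 3, 2, 5, 4]),
  (7363, [7, 6, 5, 4, 3, 2, 1, 0, 8, 3, 2, 1, 4, 3, 5, 6, 7, 9, 8, 3, 2, 1, 0, 4, 3, 5, 6, 8]),
  (7386, [7, 6, 5, 4, 3, 2, 1, 0, 8, 3, 2, 1, 4, 3, 5, 6, 7, 9, 8, 3, 2, 4, 3, 5, 4, 8, 3, 2]),
  (7664, [7, 6, 5, 4, 3, 2, 1, 0, 8, 3, 2, 1, 4, 5, 6, 7, 9, 8, 3, 2, 1, 0, 4, 3, 5, 4, 8, 3]),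
  (7677, [7, 6, 5, 4, 3, 2, 1, 0, 8, 3, 2, 1, 4, 5, 6, 7, 9, 8, 3, 2, 1, 4, 3, 2, 8, 3, 4, 9]),
  (7682, [7, 6, 5, 4, 3, 2, 1, 0, 8, 3, 2, 1, 4, 5, 6, 7, 9, 8, 3, 2, 1, 4, 3, 5, 4, 8, 3, 2]),
  (8272, [7, 6, 5, 4, 3, 2, 1, 0, 8, 3, 2, 1, 4, 3, 2, 5, 6, 7, 8, 3, 9, 8, 3, 2, 1, 0, 4, 3, 8]),
  (8317, [7, 6, 5, 4, 3, 2, 1, 0, 8, 3, 2, 1, 4, 3, 2, 5, 6, 7, 9, 8, 3, 2, 1, 0, 4, 3, 2, 8, 9]),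
  (8321, [7, 6, 5, 4, 3, 2, 1, 0, 8, 3, 2, 1, 4, 3, 2, 5, 6, 7, 9, 8, 3, 2, 1, 0, 4, 3, 5, 6, 8]),
  (8761, [7, 6, 5, 4, 3, 2, 1, 0, 8, 3, 2, 1, 4, 3, 5, 4, 6, 7, 9, 8, 3, 2, 1, 0, 4, 3, 2, 5, 4]),
  (9024, [7, 6, 5, 4, 3, 2, 1, 0, 8, 3, 2, 1, 4, 3, 5, 6, 7, 9, 8, 3, 2, 1, 4, 3, 2, 5, 8, 3, 9]),
  (9041, [7, 6, 5, 4, 3, 2, 1, 0, 8, 3, 2, 1, 4, 3, 5, 6, 7, 9, 8, 3, 2, 4, 3, 5, 4, 6, 8, 3, 2]),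
  (9042, [7, 6, 5, 4, 3, 2, 1, 0, 8, 3, 2, 1, 4, 3, 5, 6, 7, 9, 8, 3, 2, 4, 3, 5, 4, 6, 8, 3, 9]),
  (9398, [7, 6, 5, 4, 3, 2, 1, 0, 8, 3, 2, 1, 4, 5, 6, 7, 9, 8, 3, 2, 1, 0, 4, 3, 5, 4, 6, 8, 3]),
  (9401, [7, 6, 5, 4, 3, 2, 1, 0, 8, 3, 2, 1, 4, 5, 6, 7, 9, 8, 3, 2, 1, 0, 4, 3, 5, 4, 8, 3, 9]),
  (11614, [7, 6, 5, 4, 3, 2, 1, 0, 8, 3, 2, 4, 3, 5, 6, 7, 9, 8, 3, 2, 1, 4, 3, 2, 5, 8, 3, 4, 5, 6]),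
  (12096, [7, 6, 5, 4, 3, 2, 1, 0, 8, 3, 2, 1, 4, 3, 2, 5, 6, 7, 8, 9, 8, 3, 2, 1, 4, 3, 5, 4, 8, 3, 2]),
  (13082, [7, 6, 5, 4, 3, 2, 1, 0, 8, 3, 2, 1, 4, 3, 5, 6, 7, 9, 8, 3, 2, 1, 0, 4, 3, 5, 4, 6, 8, 3, 9])]

/-- The commuting pattern of the distinguished cycle. -/
def pat : List Bool := [true, false, true, false, false, true]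

/-- Words to the three pinned points. -/
def bw : List (List ℕ) := [[7, 6, 5, 4, 3, 2, 1, 0, 8, 3, 2, 1, 4, 3, 2, 5, 6, 7, 8, 3, 9, 8, 3, 2, 1, 0, 4, 3, 8], [7, 6, 5, 4, 3, 2, 1, 0, 8, 3, 2, 4, 5, 6, 7], [7, 6, 5, 4, 3, 2, 8, 3, 4, 5, 6, 7]]

end CfsgLib.CosetEnum.Fi23.Aut
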