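import Cfsg.Agent.Lib.CosetEnum.Fi23.ThreeTrans
import Cfsg.Agent.Lib.CosetEnum.Fi23.Aut.Data

set_option autoImplicit false
set_option linter.all false

/-!
The transpositions of Fi23 as the points of the permutation representation.
-/

namespace CfsgLib.CosetEnum.Fi23.Aut

open CfsgLib.CosetEnum CfsgLib.CosetEnum.Fi23

local notation "G" => Cfsg.Spor.Fi23

/-- The points. -/
abbrev Pt : Type := Fin 31671

/-- The base point. -/
def o : Pt := ⟨0, by omega⟩

/-- The element whose image follows a word. -/
def W (l : List ℕ) : G := ((l.map g).prod)⁻¹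

theorem W_apply (l : List ℕ) (hl : ∀ x ∈ l, x < 16) (k : Pt) :
    ((π (W l) k : Pt) : ℕ) = scan table l k := by
  rw [W, ← prod_invWord hinv l hl, map_list_prod, List.map_map,
    List.map_congr_left (f := ⇑π ∘ g) (g := permOf table 18364758544493064720 31671 ip_ok row_ok)
      (fun x hx => hπ x (invWord_lt l x hx))]
  exact prod_invWord_apply table 18364758544493064720 31671 ip_ok row_ok l hl k

theorem W_append (a b : List ℕ) : W (a ++ b) = W b * W a := by
  simp [W, List.map_append, List.prod_append, mul_inv_rev]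

theorem W_nil : W [] = 1 := by simp [W]

theorem W_reverse (l : List ℕ) (hl : ∀ x ∈ l, x < 16) : W l.reverse = (W l)⁻¹ := by
  rw [W, W, ← word_inv l hl]

theorem g_inv (x : ℕ) (hx : x < 16) : (g x)⁻¹ = g x := by
  rw [← hinv x hx, linv_eq x hx]

theorem g_apply (x : ℕ) (hx : x < 16) (k : Pt) : ((π (g x) k : Pt) : ℕ) = act table x k := by
  have h := W_apply [x] (by simpa using hx) k
  simp only [W, List.map_cons, List.map_nil, List.prod_cons, List.prod_nil, mul_one, g_inv x hx,
    scan_cons, scan_nil] at h
  exact h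

theorem z_inv : (z : G)⁻¹ = z := by
  have h := pow_orderOf_eq_one z
  rw [orderOf_z, pow_two] at h
  exact inv_eq_of_mul_eq_one_right h

theorem z_mul_self : (z : G) * z = 1 := by
  conv_lhs => arg 1; rw [← z_inv]
  exact inv_mul_cancel z

theorem z_apply (k : Pt) : ((π z k : Pt) : ℕ) = zCol.get 20 k := by
  have h := W_apply zw zw_lt k
  rw [zc_eq k k.2] at h
  rwa [show W zw = z from z_inv] at h

theorem exists_to (k : Pt) : ∃ u : G, π u o = k := transitive (by omega) k

/-- An element moving the base point to `k`. -/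
noncomputable def T (k : Pt) : G := (exists_to k).choose

theorem T_apply (k : Pt) : π (T k) o = k := (exists_to k).choose_spec

/-- The transposition of a point. -/
noncomputable def D (k : Pt) : G := T k * z * (T k)⁻¹

theorem fix_iff_mem (u : G) : π u o = o ↔ u ∈ H :=
  ⟨mem_of_fix u, fun h => sub_fix (by omega) u h⟩

theorem D_spec (u : G) (k : Pt) (h : π u o = k) : u * z * u⁻¹ = D k := by
  have hv : (T k)⁻¹ * u ∈ H := by
    rw [← fix_iff_mem, map_mul, Equiv.Perm.mul_apply, h, map_inv, Equiv.Perm.inv_def, Equiv.symm_apply_eq, T_apply]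
  have hc := z_comm _ hv
  calc u * z * u⁻¹ = T k * (((T k)⁻¹ * u) * z) * u⁻¹ := by group
    _ = T k * (z * ((T k)⁻¹ * u)) * u⁻¹ := by rw [hc]
    _ = D k := by rw [D]; group

theorem D_o : D o = z := by
  rw [← D_spec 1 o (by simp)]
  group

theorem conj_D (w : G) (k : Pt) : w * D k * w⁻¹ = D (π w k) := by
  rw [← D_spec (w * T k) (π w k) (by rw [map_mul, Equiv.Perm.mul_apply, T_apply]), D]
  group

theorem D_injective : Function.Injective D := by
  intro a b h
  have hv : (T a)⁻¹ * T b ∈ H := by
    rw [← centralizer_z, Subgroup.mem_centralizer_singleton_iff]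
    simp only [D] at h
    calc (T a)⁻¹ * T b * z = (T a)⁻¹ * (T b * z * (T b)⁻¹) * T b := by group
      _ = (T a)⁻¹ * (T a * z * (T a)⁻¹) * T b := by rw [h]
      _ = z * ((T a)⁻¹ * T b) := by group
  rw [← fix_iff_mem, map_mul, Equiv.Perm.mul_apply, T_apply, map_inv, Equiv.Perm.inv_def, Equiv.symm_apply_eq,
    T_apply] at hv
  exact hv.symm

theorem exists_D (u : G) : ∃ k, u * z * u⁻¹ = D k := ⟨_, D_spec u _ rfl⟩

theorem comm_iff (w : G) (k : Pt) : Commute w (D k) ↔ π w k = k := by
  constructor
  · intro h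
    refine D_injective ?_
    rw [← conj_D, h.eq]
    group
  · intro h
    have := conj_D w k
    rw [h] at this
    calc w * D k = (w * D k * w⁻¹) * w := by group
      _ = D k * w := by rw [this]

/-- Whether the transposition reached by a word fixes a point. -/
noncomputable def fixB (t : List ℕ) (q : ℕ) : Bool :=
  strict q fun q => Nat.beq (scan table t (zCol.get 20 (scan table t.reverse q))) q

theorem fixB_iff (t : List ℕ) (ht : ∀ x ∈ t, x < 16) (k : Pt) (hk : scan table t 0 = k) (q : Pt) :
    Commute (D k) (D q) ↔ fixB t q = true := by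
  have hW : π (W t) o = k := Fin.ext (by rw [W_apply t ht]; exact hk)
  rw [← D_spec _ _ hW, comm_iff, fixB, strict_eq, ← W_reverse t ht, Fin.ext_iff, map_mul, map_mul,
    Equiv.Perm.mul_apply, Equiv.Perm.mul_apply, W_apply t ht, z_apply,
    W_apply t.reverse (fun x hx => ht x (List.mem_reverse.mp hx))]
  exact ⟨fun h => by rw [h]; exact Nat.beq_refl _, fun h => Nat.eq_of_beq_eq_true h⟩

end CfsgLib.CosetEnum.Fi23.Aut
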