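import Cfsg.Agent.Lib.CosetEnum.Fi23.Aut.Check

set_option autoImplicit false
set_option linter.all false

/-!
Kernel checks for the automorphisms of Fi23: the columns.
-/

namespace CfsgLib.CosetEnum.Fi23.Aut

open CfsgLib.CosetEnum CfsgLib.CosetEnum.Fi23

theorem col_ok_0 : allFrom colOK 8192 0 = true := by decide +kernel
theorem col_ok_1 : allFrom colOK 8192 8192 = true := by decide +kernel
theorem col_ok_2 : allFrom colOK 8192 16384 = true := by decide +kernel
theorem col_ok_3 : allFrom colOK 7095 24576 = true := by decide +kernel
theorem col_ok (k : Pt) : colOK k = true := all_of_chunks col_ok_0 col_ok_1 col_ok_2 col_ok_3 k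

end CfsgLib.CosetEnum.Fi23.Aut
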