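import Cfsg.Agent.Lib.CosetEnum.Fi23.Aut.CheckNodes

set_option autoImplicit false
set_option linter.all false

/-!
The Coxeter generators of Fi23 are transpositions, and their ten points separate the group.
-/

namespace CfsgLib.CosetEnum.Fi23.Aut

open CfsgLib.CosetEnum CfsgLib.CosetEnum.Fi23

local notation "G" => Cfsg.Spor.Fi23

theorem g_mul_self (x : ℕ) (hx : x < 16) : g x * g x = 1 := by
  conv_lhs => arg 1; rw [← g_inv x hx]
  exact inv_mul_cancel _

theorem node_lt : ∀ x < 10, np x < 31671 := by decide

theorem links_lt : ∀ e ∈ links, e.1 < 10 ∧ e.2 < 10 := by decide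

theorem node_link {x y : ℕ} (hm : (x, y) ∈ links) (hp : ∀ p : Pt, (p : ℕ) = np x → D p = g x) :
    ∀ q : Pt, (q : ℕ) = np y → D q = g y := by
  intro q hq
  obtain ⟨hx, hy⟩ := links_lt _ hm
  have e : act table x (act table y (np x)) = np y :=
    Nat.eq_of_beq_eq_true (List.all_eq_true.mp links_pt _ hm)
  have hl := List.contains_iff_mem.mp (List.all_eq_true.mp links_rel _ hm)
  have hqp : π (g x * g y) ⟨np x, node_lt x hx⟩ = q := Fin.ext (by
    rw [map_mul, Equiv.Perm.mul_apply, g_apply x (by omega), g_apply y (by omega), hq]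
    exact e)
  rw [← hqp, ← conj_D, hp _ rfl]
  exact (conj_of_braid x y (by omega) hl (by omega)).symm

theorem node_seven : ∀ p : Pt, (p : ℕ) = np 7 → D p = g 7 := by
  intro p hp
  have h7 : (7 : ℕ) < 16 := by norm_num
  have m := moves_ok
  simp only [Bool.and_eq_true] at m
  set f : Pt := ⟨1, by norm_num⟩
  have h1 : π (g 7) o = f := Fin.ext (by rw [g_apply 7 h7]; exact Nat.eq_of_beq_eq_true m.1.1)
  have h2 : π z f = p := Fin.ext (by rw [z_apply, hp]; exact Nat.eq_of_beq_eq_true m.1.2)
  have hb : z * g 7 * z = g 7 * z * g 7 := by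
    refine injective (Equiv.ext fun k => Fin.ext ?_)
    simp only [map_mul, Equiv.Perm.mul_apply]
    rw [z_apply, g_apply 7 h7, z_apply, g_apply 7 h7, z_apply, g_apply 7 h7]
    have h := zBraid_ok k
    simp only [zBraid, strict_eq] at h
    exact Nat.eq_of_beq_eq_true h
  rw [← h2, ← conj_D, ← D_spec _ _ h1, g_inv 7 h7, z_inv, ← hb]
  calc z * (z * g 7 * z) * z = (z * z) * g 7 * (z * z) := by group
    _ = g 7 := by rw [z_mul_self]; group

/-- The transposition of a node point is the generator. -/
theorem D_node : ∀ x < 10, ∀ p : Pt, (p : ℕ) = np x → D p = g x := by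
  have h7 := node_seven
  have h6 := node_link (y := 6) (by decide) h7
  have h5 := node_link (y := 5) (by decide) h6
  have h4 := node_link (y := 4) (by decide) h5
  have h3 := node_link (y := 3) (by decide) h4
  have h2 := node_link (y := 2) (by decide) h3
  have h1 := node_link (y := 1) (by decide) h2
  have h0 := node_link (y := 0) (by decide) h1
  have h8 := node_link (y := 8) (by decide) h3
  have h9 := node_link (y := 9) (by decide) h8
  intro x hx
  interval_cases x
  exacts [h0, h1, h2, h3, h4, h5, h6, h7, h8, h9]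

theorem eq_one_of_nodes {w : G} (h : ∀ x < 10, ∀ p : Pt, (p : ℕ) = np x → π w p = p) : w = 1 := by
  haveI : Finite G := finite
  haveI := Simple.isSimple
  have hw : w ∈ Subgroup.center G := by
    rw [Subgroup.mem_center_iff]
    have hle : (⊤ : Subgroup G) ≤ Subgroup.centralizer ({w} : Set G) := by
      refine translation.closure_top.trans ((Subgroup.closure_le _).mpr ?_)
      rintro _ ⟨x, hx, rfl⟩
      rw [SetLike.mem_coe, Subgroup.mem_centralizer_singleton_iff]
      show g x * w = w * g x
      rcases gen_or_one x hx with hx' | hx'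
      · rw [← D_node x hx' ⟨np x, node_lt x hx'⟩ rfl]
        exact ((comm_iff w _).mpr (h x hx' _ rfl)).symm.eq
      · rw [hx', one_mul, mul_one]
    exact fun u => Subgroup.mem_centralizer_singleton_iff.mp (hle (Subgroup.mem_top u))
  rw [center_eq_bot_of_simple (K := G) (by rw [card_group]; norm_num)] at hw
  exact Subgroup.mem_bot.mp hw

theorem eq_of_nodesAlike {a b : List ℕ} (ha : ∀ x ∈ a, x < 16) (hb : ∀ x ∈ b, x < 16)
    (h : nodesAlike a b = true) : W a = W b := by
  have key : (W b)⁻¹ * W a = 1 := eq_one_of_nodes fun x hx p hp => by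
    have h1 := Nat.eq_of_beq_eq_true (List.all_eq_true.mp h x (List.mem_range.mpr hx))
    rw [map_mul, Equiv.Perm.mul_apply, map_inv, Equiv.Perm.inv_def, Equiv.symm_apply_eq]
    refine Fin.ext ?_
    rw [W_apply a ha, W_apply b hb, hp, h1]
  exact (inv_mul_eq_one.mp key).symm

end CfsgLib.CosetEnum.Fi23.Aut
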