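import Cfsg.Agent.Lib.CosetEnum.Fi23.Aut.CheckPoints
import Cfsg.Agent.Lib.CosetEnum.Fi23.Aut.CheckCols
import Cfsg.Agent.Lib.CosetEnum.Fi23.Aut.Node

set_option autoImplicit false
set_option linter.all false

/-!
The centraliser of an element of order 13 and the base point of Fi23: a distinguished cycle and pinning.
-/

namespace CfsgLib.CosetEnum.Fi23.Aut

open CfsgLib.CosetEnum CfsgLib.CosetEnum.Fi23

local notation "G" => Cfsg.Spor.Fi23

theorem xw_lt : ∀ x ∈ xw, x < 16 := by decide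

/-- The element of order 13. -/
def X : G := W xw

theorem rep_lt (i : ℕ) : ∀ x ∈ rep i, x < 16 := by
  intro x hx
  obtain ⟨l, hl, hxl⟩ := List.mem_flatten.mp hx
  rw [List.eq_of_mem_replicate hl] at hxl
  exact xw_lt x hxl

theorem W_rep : ∀ i, W (rep i) = X ^ i := by
  intro i
  induction i with
  | zero => simp [rep, W_nil]
  | succ i ih =>
    rw [show rep (i + 1) = xw ++ rep i by simp [rep, List.replicate_succ], W_append, ih, pow_succ]
    rfl

theorem X_pow_apply (i : ℕ) (k : Pt) : ((π (X ^ i) k : Pt) : ℕ) = scan table (rep i) k := by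
  rw [← W_rep, W_apply _ (rep_lt i)]

theorem X_pow : X ^ 13 = 1 := by
  rw [← W_rep, ← W_nil]
  exact eq_of_nodesAlike (rep_lt _) (by simp) pow_ok

theorem X_ne : X ≠ 1 := by
  intro h
  have h1 := W_apply xw xw_lt ⟨72, by omega⟩
  rw [show W xw = 1 from h, map_one, Equiv.Perm.one_apply] at h1
  have h2 := x_moves
  rw [← h1] at h2
  simp at h2

theorem orderOf_X : orderOf X = 13 :=
  haveI : Fact (Nat.Prime 13) := ⟨by norm_num⟩
  orderOf_eq_prime X_pow X_ne

theorem X_zero : π X o = o := by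
  refine Fin.ext ?_
  rw [X, W_apply xw xw_lt]
  exact Nat.eq_of_beq_eq_true x_zero

theorem X_z : Commute X z := z_comm X ((fix_iff_mem X).mp X_zero)

theorem X_g7 : Commute X (g 7) := by
  have h := eq_of_nodesAlike (a := [7] ++ xw) (b := xw ++ [7]) (by decide) (by decide) x_comm_ok
  rw [W_append, W_append] at h
  have h7 : W [7] = g 7 := by simp [W, g_inv 7 (by norm_num)]
  rw [h7] at h
  exact h

/-- The suborbit of points commuting with the base point. -/
def S (k : Pt) : Prop := lab.get 20 k = 2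

theorem S_of_fix {c : G} (hc : π c o = o) {k : Pt} (hk : S k) : S (π c k) := by
  rw [S, label_invariant π H subTable sub_spec.2 lab orbPar root orbit_ok c ((fix_iff_mem c).mp hc) k]
  exact hk

theorem S_X {k : Pt} (hk : S k) : S (π X k) := S_of_fix X_zero hk

theorem col_spec {k : Pt} (hk : S k) :
    xCol.get 20 k = (π X k : Pt) ∧ adjT.get 3 k = adjVal k := by
  have h := col_ok k
  simp only [colOK, strict_eq, Bool.or_eq_true, Bool.not_eq_true', Bool.and_eq_true] at h
  rcases h with h | h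
  · simp [show lab.get 20 (k : ℕ) = 2 from hk] at h
  · exact ⟨(Nat.eq_of_beq_eq_true h.1).trans (W_apply xw xw_lt k).symm, Nat.eq_of_beq_eq_true h.2⟩

theorem minFrom_spec : ∀ (n : ℕ) (cur : Pt), S cur → ∀ best r : ℕ, minFrom n cur best = r →
    r = best ∨ ∃ i, r = (π (X ^ (i + 1)) cur : Pt) := by
  intro n
  induction n with
  | zero => intro cur _ best r h; exact Or.inl h.symm
  | succ n ih =>
    intro cur hc best r h
    have h' : minFrom n (π X cur : Pt)
        (Bool.rec (motive := fun _ => ℕ) best (π X cur : Pt) (Nat.blt (π X cur : Pt) best)) = r := by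
      rw [← h, ← (col_spec hc).1]
      unfold minFrom
      simp only [strict_eq]
    rcases ih _ (S_X hc) _ _ h' with h1 | ⟨i, hi⟩
    · cases hb : Nat.blt (π X cur : Pt) best with
      | false => rw [hb] at h1; exact Or.inl h1
      | true =>
        rw [hb] at h1
        exact Or.inr ⟨0, by rw [zero_add, pow_one]; exact h1⟩
    · exact Or.inr ⟨i + 1, by rw [hi, pow_succ X (i + 1), map_mul π (X ^ (i + 1)) X, Equiv.Perm.mul_apply]⟩

theorem allWord {l : List ℕ} (h : (l.all fun x => Nat.blt x 16) = true) : ∀ x ∈ l, x < 16 := fun x hx =>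
  Nat.le_of_ble_eq_true (List.all_eq_true.mp h x hx)

/-- Every suborbit point is a power image of a representative. -/
theorem exists_rep {k : Pt} (hk : S k) :
    ∃ (i : ℕ) (r : Pt) (t : List ℕ), ((r : ℕ), t) ∈ reps ∧ π (X ^ i) r = k := by
  have h := cover_ok k
  simp only [coverOK, strict_eq, Bool.or_eq_true, Bool.not_eq_true'] at h
  rcases h with h | h
  · simp [show lab.get 20 (k : ℕ) = 2 from hk] at h
  obtain ⟨⟨r, t⟩, he, hr⟩ := List.mem_map.mp (memB_spec _ _ h)
  simp only at hr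
  obtain ⟨i, hi⟩ : ∃ i, r = (π (X ^ i) k : Pt) := by
    rcases minFrom_spec _ k hk _ r hr.symm with h | ⟨i, h⟩
    · exact ⟨0, by simpa using h⟩
    · exact ⟨i + 1, h⟩
  refine ⟨12 * i, π (X ^ i) k, t, ?_, ?_⟩
  · rw [← hi]; exact he
  · rw [← Equiv.Perm.mul_apply, ← map_mul, ← pow_add, show 12 * i + i = 13 * i by ring, pow_mul, X_pow, one_pow,
      map_one, Equiv.Perm.one_apply]

/-- The pattern of a point with its images. -/
def Pat (k : Pt) : Prop := ∀ i : ℕ, i < 6 → (Commute (D k) (D (π (X ^ (i + 1)) k)) ↔ pat.getD i false = true)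

theorem commute_conj {a b : G} (c : G) (h : Commute a b) : Commute (c * a * c⁻¹) (c * b * c⁻¹) :=
  h.map (MulAut.conj c)

theorem commute_D_map (c : G) (p q : Pt) : Commute (D (π c p)) (D (π c q)) ↔ Commute (D p) (D q) := by
  rw [← conj_D, ← conj_D]
  exact ⟨fun h => by simpa [mul_assoc] using commute_conj c⁻¹ h, commute_conj c⟩

theorem apply_comm {a b : G} (h : Commute a b) (k : Pt) : π a (π b k) = π b (π a k) := by
  rw [← Equiv.Perm.mul_apply, ← map_mul, h.eq, map_mul, Equiv.Perm.mul_apply]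

theorem pat_map {c : G} (hc : Commute X c) {k : Pt} (hk : Pat k) : Pat (π c k) := by
  intro i hi
  rw [apply_comm (hc.pow_left _), commute_D_map]
  exact hk i hi

theorem patOK_iff {t : List ℕ} (ht : ∀ x ∈ t, x < 16) {r : Pt} (hr : scan table t 0 = r) :
    Pat r ↔ patOK t r = true := by
  rw [patOK, List.all_eq_true]
  simp only [List.mem_range, beq_iff_eq]
  refine forall₂_congr fun i hi => ?_
  rw [fixB_iff t ht r hr, X_pow_apply]
  exact Bool.eq_iff_iff.symm

/-- The three points with the distinguished pattern. -/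
theorem three_spec (r : Pt) (hr : (r : ℕ) ∈ [72, 231, 8272]) :
    S r ∧ Pat r ∧ (∀ x ∈ wordOf r, x < 16) ∧ scan table (wordOf r) 0 = r ∧
      ∃ i : ℕ, fixB (wordOf 8272) (scan table (rep i) r) = true := by
  have h := link_ok
  simp only [linkOK, Bool.and_eq_true, List.all_eq_true] at h
  obtain ⟨⟨⟨⟨h1, h2⟩, h3⟩, h4⟩, h5⟩ := h.1.1 r hr
  have hw : ∀ x ∈ wordOf r, x < 16 := fun x hx => Nat.le_of_ble_eq_true (h3 x hx)
  have h2 := Nat.eq_of_beq_eq_true h2
  obtain ⟨i, -, hi⟩ := List.any_eq_true.mp h5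
  exact ⟨Nat.eq_of_beq_eq_true h4, (patOK_iff hw h2).mpr h1, hw, h2, i, hi⟩

theorem pat_cases {k : Pt} (hk : S k) (hp : Pat k) :
    ∃ (i : ℕ) (r : Pt), (r : ℕ) ∈ [72, 231, 8272] ∧ π (X ^ i) r = k := by
  obtain ⟨i, r, t, ht, hrk⟩ := exists_rep hk
  refine ⟨i, r, ?_, hrk⟩
  have h := List.all_eq_true.mp reps_ok _ ht
  simp only [Bool.and_eq_true, Bool.or_eq_true, Bool.not_eq_true'] at h
  obtain ⟨⟨h1, h2⟩, h3⟩ := h
  rcases h3 with h3 | h3
  · exfalso
    have hp' : Pat r := by
      have h' := pat_map (c := (X ^ i)⁻¹) ((Commute.refl X).pow_right i).inv_right hp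
      rwa [← hrk, map_inv, ← Equiv.Perm.mul_apply, inv_mul_cancel, Equiv.Perm.one_apply] at h'
    rw [(patOK_iff (allWord h1) (Nat.eq_of_beq_eq_true h2)).mp hp'] at h3
    exact Bool.noConfusion h3
  · exact memB_spec _ _ h3

/-- The distinguished point. -/
def b : Pt := ⟨8272, by omega⟩

theorem b_meets {q : Pt} (hS : S q) (hP : Pat q) : ∃ i : ℕ, Commute (D b) (D (π (X ^ i) q)) := by
  obtain ⟨i, r, hr, rfl⟩ := pat_cases hS hP
  obtain ⟨-, -, -, -, j, hj⟩ := three_spec r hr
  obtain ⟨-, -, hw, hw', -⟩ := three_spec b (show 8272 ∈ [72, 231, 8272] by simp)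
  refine ⟨j + 12 * i, ?_⟩
  rw [← Equiv.Perm.mul_apply, ← map_mul, ← pow_add, show j + 12 * i + i = j + 13 * i by ring, pow_add, pow_mul,
    X_pow, one_pow, mul_one, fixB_iff _ hw b hw', X_pow_apply]
  exact hj

theorem no_meet (r q : Pt) (hr : (r : ℕ) ∈ [72, 231, 8272]) (hr8 : (r : ℕ) ≠ 8272)
    (hq : (q : ℕ) = if (r : ℕ) = 72 then 231 else 72) (n : ℕ) : ¬ Commute (D r) (D (π (X ^ n) q)) := by
  obtain ⟨-, -, hw, hw', -⟩ := three_spec r hr
  rw [fixB_iff _ hw r hw', X_pow_apply]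
  have h := link_ok
  simp only [linkOK, Bool.and_eq_true, List.all_eq_true, List.mem_range, Bool.not_eq_true'] at h
  have hn : π (X ^ n) q = π (X ^ (n % 13)) q := by conv_lhs => rw [pow_eq_pow_mod n X_pow]
  have e : scan table (rep n) q = scan table (rep (n % 13)) q := by
    rw [← X_pow_apply, ← X_pow_apply, hn]
  rw [e]
  simp only [List.mem_cons, List.not_mem_nil, or_false] at hr
  rcases hr with h' | h' | h'
  · rw [h', if_pos rfl] at hq
    rw [h', hq, h.1.2 (n % 13) (Nat.mod_lt _ (by norm_num))]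
    simp
  · rw [h', if_neg (by norm_num)] at hq
    rw [h', hq, h.2 (n % 13) (Nat.mod_lt _ (by norm_num))]
    simp
  · exact absurd h' hr8

/-- An element of the centraliser of the base point and of `X` keeps the distinguished cycle. -/
theorem exists_shift {c : G} (h0 : π c o = o) (hX : Commute X c) : ∃ i : ℕ, π c b = π (X ^ i) b := by
  obtain ⟨hbS, hbP, -, -, -⟩ := three_spec b (show 8272 ∈ [72, 231, 8272] by simp)
  obtain ⟨i, r, hr, hrk⟩ := pat_cases (S_of_fix h0 hbS) (pat_map hX hbP)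
  by_cases h8 : (r : ℕ) = 8272
  · exact ⟨i, by rw [← hrk, show r = b from Fin.ext h8]⟩
  exfalso
  set q : Pt := ⟨if (r : ℕ) = 72 then 231 else 72, by split <;> norm_num⟩ with hqdef
  have hq : (q : ℕ) = if (r : ℕ) = 72 then 231 else 72 := rfl
  obtain ⟨hqS, hqP, -, -, -⟩ := three_spec q (by rw [hq]; split <;> simp)
  have hcinv : π c⁻¹ o = o := by rw [map_inv, Equiv.Perm.inv_def, Equiv.symm_apply_eq, h0]
  have hXo : π (X ^ i) o = o := (fix_iff_mem _).mpr (H.pow_mem ((fix_iff_mem X).mp X_zero) i)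
  obtain ⟨l, hl⟩ := b_meets (S_of_fix hcinv (S_of_fix hXo hqS))
    (pat_map hX.inv_right (pat_map ((Commute.refl X).pow_right i) hqP))
  rw [← commute_D_map c, ← apply_comm (hX.pow_left l), ← hrk, ← Equiv.Perm.mul_apply (π c), ← map_mul,
    mul_inv_cancel, map_one, Equiv.Perm.one_apply, ← Equiv.Perm.mul_apply, ← map_mul,
    ((Commute.refl X).pow_pow l i).eq, map_mul, Equiv.Perm.mul_apply, commute_D_map] at hl
  exact no_meet r q hr h8 hq l hl

theorem bw_spec (j : ℕ) (hj : j < 3) :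
    (∀ x ∈ bw.getD j [], x < 16) ∧ scan table (bw.getD j []) 0 = [8272, 129, 52].getD j 0 := by
  have h := List.all_eq_true.mp bw_ok j (List.mem_range.mpr hj)
  simp only [Bool.and_eq_true] at h
  exact ⟨allWord h.1, Nat.eq_of_beq_eq_true h.2⟩

theorem bit_map (j : ℕ) (hj : j < 3) {c : G} {r : Pt} (hr : (r : ℕ) = [8272, 129, 52].getD j 0) (hc : π c r = r)
    (p : Pt) : fixB (bw.getD j []) (π c p : Pt) = fixB (bw.getD j []) p := by
  obtain ⟨hw, hw'⟩ := bw_spec j hj
  rw [← hr] at hw'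
  refine Bool.eq_iff_iff.mpr ?_
  rw [← fixB_iff _ hw r hw', ← fixB_iff _ hw r hw', ← commute_D_map c r p, hc]

theorem code_map (msk : ℕ) {c : G} (h0 : π c o = o) (hX : Commute X c)
    (hbits : ∀ p : Pt, adjVal (π c p : Pt) &&& msk = adjVal p &&& msk) :
    ∀ n (p : Pt), S p → ∀ acc, codeGo msk n (π c p : Pt) acc = codeGo msk n p acc := by
  intro n
  induction n with
  | zero => intro p _ acc; rfl
  | succ n ih =>
    intro p hp acc
    have step : ∀ q : Pt, S q → codeGo msk (n + 1) q acc = codeGo msk n (π X q : Pt) (acc * 8 + (adjVal q &&& msk)) := by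
      intro q hq
      rw [← (col_spec hq).1, ← (col_spec hq).2]
      unfold codeGo
      simp only [strict_eq]
    rw [step _ (S_of_fix h0 hp), step _ hp, hbits, apply_comm hX, ih _ (S_X hp)]

/-- Pinning: the code determines a pinned point. -/
theorem pin (msk : ℕ) (ts : List (ℕ × ℕ)) (hu : ∀ k : Pt, uniqOK msk ts k = true) (ht : tgtOK msk ts = true)
    {c : G} (h0 : π c o = o) (hX : Commute X c)
    (hbits : ∀ p : Pt, adjVal (π c p : Pt) &&& msk = adjVal p &&& msk)
    (q : Pt) (e : ℕ × ℕ) (he : e ∈ ts) (hq : (q : ℕ) = e.1) : π c q = q := by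
  have h := List.all_eq_true.mp ht e he
  simp only [Bool.and_eq_true] at h
  obtain ⟨⟨-, hl⟩, hcode⟩ := h
  rw [← hq] at hl hcode
  have hqS : S q := Nat.eq_of_beq_eq_true hl
  have h1 := hu (π c q)
  simp only [uniqOK, strict_eq, Bool.or_eq_true, Bool.not_eq_true', List.all_eq_true] at h1
  rcases h1 with h1 | h1
  · rw [show lab.get 20 ((π c q : Pt) : ℕ) = 2 from S_of_fix h0 hqS] at h1; simp at h1
  rcases h1 e he with h2 | h2
  · rw [code_map msk h0 hX hbits 13 q hqS, hcode] at h2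
    exact Bool.noConfusion h2
  · exact Fin.ext ((Nat.eq_of_beq_eq_true h2).trans hq.symm)

/-- A rigid element. -/
theorem pinned_sel {c : G} (h0 : π c o = o) (hX : Commute X c) (hb : π c b = b) :
    ∀ x ∈ sel, ∀ p : Pt, (p : ℕ) = np x → π c p = p := by
  have f0 := bit_map 0 (by norm_num) (r := b) rfl hb
  have e1 := pin 1 tgt1 uniq1_ok tgt1_ok h0 hX (fun p => by
    simp only [adjVal, f0 p]
    cases fixB (bw.getD 0 []) (p : ℕ) <;> cases fixB (bw.getD 1 []) (p : ℕ) <;> cases fixB (bw.getD 2 []) (p : ℕ) <;>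
      cases fixB (bw.getD 1 []) (π c p : Pt) <;> cases fixB (bw.getD 2 []) (π c p : Pt) <;> rfl)
    ⟨129, by norm_num⟩ _ (List.mem_cons_self ..) rfl
  have f1 := bit_map 1 (by norm_num) (r := ⟨129, by norm_num⟩) rfl e1
  have e2 := pin 3 tgt2 uniq2_ok tgt2_ok h0 hX (fun p => by
    simp only [adjVal, f0 p, f1 p]
    cases fixB (bw.getD 0 []) (p : ℕ) <;> cases fixB (bw.getD 1 []) (p : ℕ) <;> cases fixB (bw.getD 2 []) (p : ℕ) <;>
      cases fixB (bw.getD 2 []) (π c p : Pt) <;> rfl)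
    ⟨52, by norm_num⟩ _ (List.mem_cons_self ..) rfl
  have f2 := bit_map 2 (by norm_num) (r := ⟨52, by norm_num⟩) rfl e2
  intro x hx p hp
  obtain ⟨e, he, hex⟩ := List.mem_map.mp ((by decide : ∀ x ∈ sel, np x ∈ tgt3.map Prod.fst) x hx)
  exact pin 7 tgt3 uniq3_ok tgt3_ok h0 hX (fun p => by simp only [adjVal, f0 p, f1 p, f2 p]) p e he (hp.trans hex.symm)

end CfsgLib.CosetEnum.Fi23.Aut
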