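import Cfsg.Agent.Lib.CosetEnum.Fi23.Aut.Base
import Cfsg.Agent.Lib.CosetEnum.Fi23.Aut.Cols

set_option autoImplicit false
set_option linter.all false

/-!
Tests for the automorphisms of Fi23, to be evaluated by the kernel.
-/

namespace CfsgLib.CosetEnum.Fi23.Aut

open CfsgLib.CosetEnum CfsgLib.CosetEnum.Fi23

/-- Count the points `lo ≤ k < lo + c` passing a test. -/
noncomputable def countB (f : ℕ → Bool) : ℕ → ℕ → ℕ → ℕ :=
  fun fuel => Nat.rec (motive := fun _ => ℕ → ℕ → ℕ)
    (fun lo c => Nat.rec (motive := fun _ => ℕ) 0
      (fun i ih => Bool.rec (motive := fun _ => ℕ) ih (ih + 1) (f (lo + i))) c)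
    (fun _ ih lo c => strict lo fun lo => strict c fun c =>
      strict (ih lo (c / 2)) fun a => strict (ih (lo + c / 2) (c - c / 2)) fun b => a + b) fuel

theorem countB_eq (f : ℕ → Bool) : ∀ fuel lo c,
    countB f fuel lo c = ∑ i ∈ Finset.range c, if f (lo + i) then 1 else 0 := by
  intro fuel
  induction fuel with
  | zero =>
    intro lo c
    induction c with
    | zero => simp [countB]
    | succ c ih =>
      rw [Finset.sum_range_succ, ← ih]
      show Bool.rec (motive := fun _ => ℕ) (countB f 0 lo c) (countB f 0 lo c + 1) (f (lo + c)) = _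
      cases f (lo + c) <;> simp
  | succ n ih =>
    intro lo c
    have h1 : countB f (n + 1) lo c = countB f n lo (c / 2) + countB f n (lo + c / 2) (c - c / 2) := by
      unfold countB
      simp only [strict_eq]
    rw [h1, ih, ih]
    conv_rhs => rw [show c = c / 2 + (c - c / 2) by omega, Finset.sum_range_add]
    simp only [Nat.add_assoc]

theorem all_of_chunks {f : ℕ → Bool} (h0 : allFrom f 8192 0 = true) (h1 : allFrom f 8192 8192 = true)
    (h2 : allFrom f 8192 16384 = true) (h3 : allFrom f 7095 24576 = true) (k : Pt) : f k = true := by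
  have hk := k.2
  rcases (by omega : (k : ℕ) < 8192 ∨ 8192 ≤ (k : ℕ) ∧ (k : ℕ) < 16384 ∨ 16384 ≤ (k : ℕ) ∧ (k : ℕ) < 24576 ∨ 24576 ≤ (k : ℕ))
    with h | ⟨h, h'⟩ | ⟨h, h'⟩ | h
  · exact allFrom_spec f _ _ h0 k (Nat.zero_le _) (by omega)
  · exact allFrom_spec f _ _ h1 k h (by omega)
  · exact allFrom_spec f _ _ h2 k h (by omega)
  · exact allFrom_spec f _ _ h3 k h (by omega)

/-- Powers of the word. -/
def rep (i : ℕ) : List ℕ := (List.replicate i xw).flatten

/-- The commuting bits of a point against the three pinned points. -/
noncomputable def adjVal (k : ℕ) : ℕ :=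
  cond (fixB (bw.getD 0 []) k) 1 0 + cond (fixB (bw.getD 1 []) k) 2 0 + cond (fixB (bw.getD 2 []) k) 4 0

/-- The two columns are right. -/
noncomputable def colOK (k : ℕ) : Bool :=
  strict k fun k => !Nat.beq (lab.get 20 k) 2 ||
    (Nat.beq (xCol.get 20 k) (scan table xw k) && Nat.beq (adjT.get 3 k) (adjVal k))

/-- The code of the next `n` points of a cycle. -/
noncomputable def codeGo (msk : ℕ) : ℕ → ℕ → ℕ → ℕ :=
  fun n => Nat.rec (motive := fun _ => ℕ → ℕ → ℕ) (fun _ acc => acc)
    (fun _ ih k acc => strict k fun k => strict acc fun acc => ih (xCol.get 20 k) (acc * 8 + (adjT.get 3 k &&& msk))) n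

/-- Only the listed points have the listed codes. -/
noncomputable def uniqOK (msk : ℕ) (ts : List (ℕ × ℕ)) (k : ℕ) : Bool :=
  strict k fun k => !Nat.beq (lab.get 20 k) 2 ||
    strict (codeGo msk 13 k 0) fun c => ts.all fun e => !Nat.beq c e.2 || Nat.beq k e.1

/-- The listed points have the listed codes. -/
noncomputable def tgtOK (msk : ℕ) (ts : List (ℕ × ℕ)) : Bool :=
  ts.all fun e => Nat.blt e.1 31671 && Nat.beq (lab.get 20 e.1) 2 && Nat.beq (codeGo msk 13 e.1 0) e.2

/-- Test a point against a list. -/
noncomputable def memB (k : ℕ) : List ℕ → Bool :=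
  fun l => List.rec (motive := fun _ => Bool) false (fun a _ ih => Nat.beq a k || ih) l

theorem memB_spec (k : ℕ) : ∀ l, memB k l = true → k ∈ l := by
  intro l
  induction l with
  | nil => simp [memB]
  | cons a l ih =>
    intro h
    unfold memB at h
    simp only [Bool.or_eq_true] at h
    rcases h with h | h
    · simp [Nat.eq_of_beq_eq_true h]
    · exact List.mem_cons_of_mem _ (ih h)

/-- The least point reached from `cur` by at most `n` further steps, against a best value so far. -/
noncomputable def minFrom : ℕ → ℕ → ℕ → ℕ :=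
  fun n => Nat.rec (motive := fun _ => ℕ → ℕ → ℕ) (fun _ best => best)
    (fun _ ih cur best => strict (xCol.get 20 cur) fun c =>
      strict (Bool.rec (motive := fun _ => ℕ) best c (Nat.blt c best)) fun b => ih c b) n

/-- The representatives' points. -/
noncomputable def coverOK (k : ℕ) : Bool :=
  strict k fun k => !Nat.beq (lab.get 20 k) 2 || memB (minFrom 12 k k) (reps.map Prod.fst)

/-- The commuting pattern of a point with its images. -/
noncomputable def patOK (t : List ℕ) (r : ℕ) : Bool :=
  (List.range 6).all fun i => fixB t (scan table (rep (i + 1)) r) == pat.getD i false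

/-- Only three cycles have the pattern. -/
noncomputable def repsOK : Bool :=
  reps.all fun e => (e.2.all fun x => Nat.blt x 16) && Nat.beq (scan table e.2 0) e.1 &&
    (!patOK e.2 e.1 || memB e.1 [72, 231, 8272])

/-- The word of a representative. -/
def wordOf (r : ℕ) : List ℕ := ((reps.find? fun e => e.1 == r).map Prod.snd).getD []

/-- The meeting data of the three cycles. -/
noncomputable def linkOK : Bool :=
  ([72, 231, 8272].all fun r => patOK (wordOf r) r && Nat.beq (scan table (wordOf r) 0) r &&
    ((wordOf r).all fun x => Nat.blt x 16) && Nat.beq (lab.get 20 r) 2 &&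
    (List.range 13).any fun i => fixB (wordOf 8272) (scan table (rep i) r)) &&
  ((List.range 13).all fun i => !fixB (wordOf 72) (scan table (rep i) 231)) &&
  ((List.range 13).all fun i => !fixB (wordOf 231) (scan table (rep i) 72))

/-- The words of the pinned points reach them. -/
noncomputable def bwOK : Bool :=
  (List.range 3).all fun j => ((bw.getD j []).all fun x => Nat.blt x 16) &&
    Nat.beq (scan table (bw.getD j []) 0) ([8272, 129, 52].getD j 0)

/-- The node point by node number. -/
def np (x : ℕ) : ℕ := nodePt.getD x 0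

/-- Two words act alike on the node points. -/
noncomputable def nodesAlike (a b : List ℕ) : Bool :=
  (List.range 10).all fun x => Nat.beq (scan table a (np x)) (scan table b (np x))

/-- The braid relation of the central involution and node 7. -/
noncomputable def zBraid (k : ℕ) : Bool :=
  strict k fun k => strict (zCol.get 20 k) fun k' =>
    Nat.beq (zCol.get 20 (act table 7 k')) (act table 7 (zCol.get 20 (act table 7 k)))

/-- Points fixed by the element of order 13. -/
noncomputable def fixedOK (k : ℕ) : Bool :=
  strict k fun k => !Nat.beq (scan table xw k) k || memB k [0, 1, 8006]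

/-- The conditions on a candidate for place `i`. -/
noncomputable def candB (i k : ℕ) : Bool :=
  strict k fun k => (ord.take i).all fun y =>
    (Nat.beq (act table y k) k == Nat.beq (act table y (np (ord.getD i 0))) (np (ord.getD i 0))) && !Nat.beq k (np y)

/-- Pairs of adjacent nodes, parent first. -/
def links : List (ℕ × ℕ) := [(7, 6), (6, 5), (5, 4), (4, 3), (3, 2), (2, 1), (1, 0), (3, 8), (8, 9)]

end CfsgLib.CosetEnum.Fi23.Aut
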