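import Cfsg.Agent.Lib.CosetEnum.Fi23.Aut.Check

set_option autoImplicit false
set_option linter.all false

/-!
Kernel checks for the automorphisms of Fi23: candidate counts.
-/

namespace CfsgLib.CosetEnum.Fi23.Aut

open CfsgLib.CosetEnum CfsgLib.CosetEnum.Fi23

theorem cnt_0 : countB (candB 0) 9 0 31671 = 31671 := by decide +kernel
theorem cnt_1 : countB (candB 1) 9 0 31671 = 28160 := by decide +kernel
theorem cnt_2 : countB (candB 2) 9 0 31671 = 3159 := by decide +kernel
theorem cnt_3 : countB (candB 3) 9 0 31671 = 63 := by decide +kernel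
theorem cnt_4 : countB (candB 4) 9 0 31671 = 32 := by decide +kernel

end CfsgLib.CosetEnum.Fi23.Aut
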