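import Cfsg.Agent.Lib.CosetEnum.Fi23.Aut.Check

set_option autoImplicit false
set_option linter.all false

/-!
Kernel checks for the automorphisms of Fi23: candidate counts.
-/

namespace CfsgLib.CosetEnum.Fi23.Aut

open CfsgLib.CosetEnum CfsgLib.CosetEnum.Fi23

theorem cnt_5 : countB (candB 5) 9 0 31671 = 15 := by decide +kernel
theorem cnt_6 : countB (candB 6) 9 0 31671 = 8 := by decide +kernel
theorem cnt_7 : countB (candB 7) 9 0 31671 = 3 := by decide +kernel
theorem cnt_8 : countB (candB 8) 9 0 31671 = 2 := by decide +kernel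
theorem cnt_9 : countB (candB 9) 9 0 31671 = 1 := by decide +kernel

end CfsgLib.CosetEnum.Fi23.Aut
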