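import Cfsg.Agent.Lib.CosetEnum.Fi23.Aut.Check

set_option autoImplicit false
set_option linter.all false

/-!
Kernel checks for the automorphisms of Fi23: node data and fixed points.
-/

namespace CfsgLib.CosetEnum.Fi23.Aut

open CfsgLib.CosetEnum CfsgLib.CosetEnum.Fi23

theorem zBraid_ok_0 : allFrom zBraid 8192 0 = true := by decide +kernel
theorem zBraid_ok_1 : allFrom zBraid 8192 8192 = true := by decide +kernel
theorem zBraid_ok_2 : allFrom zBraid 8192 16384 = true := by decide +kernel
theorem zBraid_ok_3 : allFrom zBraid 7095 24576 = true := by decide +kernel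
theorem zBraid_ok (k : Pt) : zBraid k = true := all_of_chunks zBraid_ok_0 zBraid_ok_1 zBraid_ok_2 zBraid_ok_3 k

theorem fixed_ok_0 : allFrom fixedOK 8192 0 = true := by decide +kernel
theorem fixed_ok_1 : allFrom fixedOK 8192 8192 = true := by decide +kernel
theorem fixed_ok_2 : allFrom fixedOK 8192 16384 = true := by decide +kernel
theorem fixed_ok_3 : allFrom fixedOK 7095 24576 = true := by decide +kernel
theorem fixed_ok (k : Pt) : fixedOK k = true := all_of_chunks fixed_ok_0 fixed_ok_1 fixed_ok_2 fixed_ok_3 k

theorem pow_ok : nodesAlike (rep 13) [] = true := by decide +kernel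
theorem x_comm_ok : nodesAlike ([7] ++ xw) (xw ++ [7]) = true := by decide +kernel
theorem x_moves : Nat.beq (scan table xw 72) 72 = false := by decide +kernel
theorem x_zero : Nat.beq (scan table xw 0) 0 = true := by decide +kernel
theorem moves_ok : (Nat.beq (act table 7 0) 1 && Nat.beq (zCol.get 20 1) (np 7) && Nat.beq (np 7) 8006) = true := by decide +kernel
theorem links_pt : (links.all fun e => Nat.beq (act table e.1 (act table e.2 (np e.1))) (np e.2)) = true := by
  decide +kernel
theorem links_rel : (links.all fun e => ls.contains [e.1, e.2, e.1, e.2, e.1, e.2]) = true := by decide +kernel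

end CfsgLib.CosetEnum.Fi23.Aut
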