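import Cfsg.Agent.Lib.CosetEnum.Fi23.Aut.Check

set_option autoImplicit false
set_option linter.all false

/-!
Kernel checks for the automorphisms of Fi23: points.
-/

namespace CfsgLib.CosetEnum.Fi23.Aut

open CfsgLib.CosetEnum CfsgLib.CosetEnum.Fi23

theorem cover_ok_0 : allFrom coverOK 8192 0 = true := by decide +kernel
theorem cover_ok_1 : allFrom coverOK 8192 8192 = true := by decide +kernel
theorem cover_ok_2 : allFrom coverOK 8192 16384 = true := by decide +kernel
theorem cover_ok_3 : allFrom coverOK 7095 24576 = true := by decide +kernel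
theorem cover_ok (k : Pt) : coverOK k = true := all_of_chunks cover_ok_0 cover_ok_1 cover_ok_2 cover_ok_3 k

theorem uniq1_ok_0 : allFrom (uniqOK 1 tgt1) 8192 0 = true := by decide +kernel
theorem uniq1_ok_1 : allFrom (uniqOK 1 tgt1) 8192 8192 = true := by decide +kernel
theorem uniq1_ok_2 : allFrom (uniqOK 1 tgt1) 8192 16384 = true := by decide +kernel
theorem uniq1_ok_3 : allFrom (uniqOK 1 tgt1) 7095 24576 = true := by decide +kernel
theorem uniq1_ok (k : Pt) : (uniqOK 1 tgt1) k = true := all_of_chunks uniq1_ok_0 uniq1_ok_1 uniq1_ok_2 uniq1_ok_3 k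

theorem uniq2_ok_0 : allFrom (uniqOK 3 tgt2) 8192 0 = true := by decide +kernel
theorem uniq2_ok_1 : allFrom (uniqOK 3 tgt2) 8192 8192 = true := by decide +kernel
theorem uniq2_ok_2 : allFrom (uniqOK 3 tgt2) 8192 16384 = true := by decide +kernel
theorem uniq2_ok_3 : allFrom (uniqOK 3 tgt2) 7095 24576 = true := by decide +kernel
theorem uniq2_ok (k : Pt) : (uniqOK 3 tgt2) k = true := all_of_chunks uniq2_ok_0 uniq2_ok_1 uniq2_ok_2 uniq2_ok_3 k

theorem uniq3_ok_0 : allFrom (uniqOK 7 tgt3) 8192 0 = true := by decide +kernel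
theorem uniq3_ok_1 : allFrom (uniqOK 7 tgt3) 8192 8192 = true := by decide +kernel
theorem uniq3_ok_2 : allFrom (uniqOK 7 tgt3) 8192 16384 = true := by decide +kernel
theorem uniq3_ok_3 : allFrom (uniqOK 7 tgt3) 7095 24576 = true := by decide +kernel
theorem uniq3_ok (k : Pt) : (uniqOK 7 tgt3) k = true := all_of_chunks uniq3_ok_0 uniq3_ok_1 uniq3_ok_2 uniq3_ok_3 k

theorem tgt1_ok : tgtOK 1 tgt1 = true := by decide +kernel
theorem tgt2_ok : tgtOK 3 tgt2 = true := by decide +kernel
theorem tgt3_ok : tgtOK 7 tgt3 = true := by decide +kernel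
theorem reps_ok : repsOK = true := by decide +kernel
theorem link_ok : linkOK = true := by decide +kernel
theorem bw_ok : bwOK = true := by decide +kernel

end CfsgLib.CosetEnum.Fi23.Aut
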