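import Cfsg.Agent.Lib.CosetEnum.Fi23.Aut.Centralizer

set_option autoImplicit false
set_option linter.all false

/-!
The involutions commuting with an element of order 13 of Fi23 are transpositions.
-/

namespace CfsgLib.CosetEnum.Fi23.Aut

open CfsgLib.CosetEnum CfsgLib.CosetEnum.Fi23

local notation "G" => Cfsg.Spor.Fi23

set_option maxRecDepth 8000 in
/-- The centraliser of `X` and the base point. -/
theorem eq_of_fix_zero {c : G} (h0 : π c o = o) (hX : Commute X c) (hc : c * c = 1) : c = 1 ∨ c = z := by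
  obtain ⟨i, hi⟩ := exists_shift h0 hX
  set d := (X ^ i)⁻¹ * c with hd
  have hXo : π (X ^ i)⁻¹ o = o := (fix_iff_mem _).mpr (H.inv_mem (H.pow_mem ((fix_iff_mem X).mp X_zero) i))
  have hd0 : π d o = o := by rw [hd, map_mul, Equiv.Perm.mul_apply, h0, hXo]
  have hdX : Commute X d := ((Commute.refl X).pow_right i).inv_right.mul_right hX
  have hdb : π d b = b := by
    rw [hd, map_mul, Equiv.Perm.mul_apply, hi, map_inv, ← Equiv.Perm.mul_apply, inv_mul_cancel, Equiv.Perm.one_apply]
  have hdH : d ∈ H := (fix_iff_mem d).mp hd0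
  have hcent : (⟨d, hdH⟩ : H) ∈ Subgroup.center H := by
    rw [Subgroup.mem_center_iff]
    rintro ⟨w, hw⟩
    refine Subtype.ext ?_
    show w * d = d * w
    have hle : H ≤ Subgroup.centralizer ({d} : Set G) := by
      conv_lhs => rw [sub_eq_closure]
      refine (Subgroup.closure_le _).mpr ?_
      rintro _ ⟨j, rfl⟩
      set x := sel.getD j 15 with hx
      have hxs : x ∈ sel := (by decide : ∀ j : Fin 9, sel.getD j 15 ∈ sel) j
      have hx10 : x < 10 := (by decide : ∀ x ∈ sel, x < 10) x hxs
      rw [SetLike.mem_coe, Subgroup.mem_centralizer_singleton_iff]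
      show g x * d = d * g x
      rw [← D_node x hx10 ⟨np x, node_lt x hx10⟩ rfl]
      exact ((comm_iff d _).mpr (pinned_sel hd0 hdX hdb x hxs ⟨np x, node_lt x hx10⟩ rfl)).symm.eq
    exact Subgroup.mem_centralizer_singleton_iff.mp (hle hw)
  have hz : (⟨z, z_mem⟩ : H) ∈ Subgroup.center H :=
    Subgroup.mem_center_iff.mpr fun w => Subtype.ext (z_comm w w.2)
  haveI : Finite G := finite
  have hd2 : d = 1 ∨ d = z := by
    obtain ⟨u, -, huniq⟩ := (Nat.card_eq_two_iff' (1 : Subgroup.center H)).mp doubleCover.1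
    by_cases h1 : (⟨_, hcent⟩ : Subgroup.center H) = 1
    · exact Or.inl (congrArg Subtype.val (congrArg Subtype.val h1))
    refine Or.inr ?_
    have h2 : (⟨_, hcent⟩ : Subgroup.center H) = ⟨_, hz⟩ :=
      (huniq _ h1).trans (huniq _ fun h => z_ne_one (congrArg Subtype.val (congrArg Subtype.val h))).symm
    exact congrArg Subtype.val (congrArg Subtype.val h2)
  have hdd : d * d = 1 := by rcases hd2 with h | h <;> rw [h] <;> simp [z_mul_self]
  have hcomm : Commute (X ^ i) d := hdX.pow_left i
  have hcd : c = X ^ i * d := by rw [hd]; group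
  have h2 : X ^ (2 * i) = 1 := by
    rw [hcd] at hc
    calc X ^ (2 * i) = X ^ i * X ^ i * (d * d) := by rw [hdd, mul_one, two_mul, pow_add]
      _ = X ^ i * (X ^ i * d) * d := by group
      _ = X ^ i * (d * X ^ i) * d := by rw [hcomm.eq]
      _ = 1 := by rw [← hc]; group
  have h13 : 13 ∣ 2 * i := orderOf_X ▸ orderOf_dvd_iff_pow_eq_one.mpr h2
  obtain ⟨j, rfl⟩ : 13 ∣ i := by omega
  rw [hcd, pow_mul, X_pow, one_pow, one_mul]
  exact hd2

theorem eq_of_fix_moved {u : G} (hu : Commute X u) {f : Pt} (hf : π u o = f) {c : G} (hX : Commute X c)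
    (hc : c * c = 1) (hcf : π c f = f) : c = 1 ∨ c = D f := by
  have h := eq_of_fix_zero (c := u⁻¹ * c * u)
    (by rw [map_mul, map_mul, Equiv.Perm.mul_apply, Equiv.Perm.mul_apply, hf, hcf, map_inv, Equiv.Perm.inv_def,
      Equiv.symm_apply_eq, hf])
    ((hu.inv_right.mul_right hX).mul_right hu)
    (by calc u⁻¹ * c * u * (u⁻¹ * c * u) = u⁻¹ * (c * c) * u := by group
          _ = 1 := by rw [hc]; group)
  rcases h with h | h
  · left
    calc c = u * (u⁻¹ * c * u) * u⁻¹ := by group
      _ = 1 := by rw [h]; group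
  · right
    rw [← D_spec u f hf, ← h]
    group

/-- Involutions commuting with `X` are transpositions. -/
theorem exists_D_of_commute {c : G} (hc : c * c = 1) (hc1 : c ≠ 1) (hX : Commute X c) : ∃ k, c = D k := by
  classical
  set F : Set Pt := {k | π X k = k} with hF
  have hmem : ∀ k : Pt, k ∈ F → (k : ℕ) = 0 ∨ (k : ℕ) = 1 ∨ (k : ℕ) = 8006 := by
    intro k hk
    have h := fixed_ok k
    simp only [fixedOK, strict_eq, Bool.or_eq_true, Bool.not_eq_true'] at h
    rcases h with h | h
    · rw [← W_apply xw xw_lt, show π (W xw) k = k from hk] at h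
      simp at h
    · simpa using memB_spec _ _ h
  have h7 : g 7 * g 7 = 1 := g_mul_self 7 (by norm_num)
  have m := moves_ok
  simp only [Bool.and_eq_true] at m
  set f1 : Pt := ⟨1, by norm_num⟩
  set f2 : Pt := ⟨8006, by norm_num⟩
  have u1 : π (g 7) o = f1 := Fin.ext (by rw [g_apply 7 (by norm_num)]; exact Nat.eq_of_beq_eq_true m.1.1)
  have u2 : π (z * g 7) o = f2 := Fin.ext (by
    rw [map_mul, Equiv.Perm.mul_apply, u1, z_apply]
    exact (Nat.eq_of_beq_eq_true m.1.2).trans (Nat.eq_of_beq_eq_true m.2))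
  have hmap : ∀ k, k ∈ F → π c k ∈ F := fun k hk => by
    show π X (π c k) = π c k
    rw [apply_comm hX, show π X k = k from hk]
  have hcc : ∀ k, π c (π c k) = k := fun k => by
    rw [← Equiv.Perm.mul_apply, ← map_mul, hc, map_one, Equiv.Perm.one_apply]
  have ho : o ∈ F := X_zero
  have hf1 : f1 ∈ F := by
    show π X f1 = f1
    rw [← u1, apply_comm X_g7, X_zero]
  have hf2 : f2 ∈ F := by
    show π X f2 = f2
    rw [← u2, apply_comm (X_z.mul_right X_g7), X_zero]
  have key : π c o = o ∨ π c f1 = f1 ∨ π c f2 = f2 := by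
    by_contra hne
    simp only [not_or] at hne
    have cases3 : ∀ k, k ∈ F → π c k = o ∨ π c k = f1 ∨ π c k = f2 := by
      intro k hk
      rcases hmem _ (hmap k hk) with h | h | h
      · exact Or.inl (Fin.ext h)
      · exact Or.inr (Or.inl (Fin.ext h))
      · exact Or.inr (Or.inr (Fin.ext h))
    have h12 : f1 ≠ f2 := fun h => absurd (congrArg Fin.val h) (by simp [f1, f2])
    rcases cases3 o ho with h | h | h
    · exact hne.1 h
    · have h' : π c f1 = o := by rw [← h, hcc]
      rcases cases3 f2 hf2 with g' | g' | g'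
      · have := congrArg (π c) (g'.trans h'.symm); rw [hcc, hcc] at this; exact h12 this.symm
      · have := congrArg (π c) (g'.trans h.symm); rw [hcc, hcc] at this
        exact absurd (congrArg Fin.val this) (by simp [f2, o])
      · exact hne.2.2 g'
    · have h' : π c f2 = o := by rw [← h, hcc]
      rcases cases3 f1 hf1 with g' | g' | g'
      · have := congrArg (π c) (g'.trans h'.symm); rw [hcc, hcc] at this; exact h12 this
      · exact hne.2.1 g'
      · have := congrArg (π c) (g'.trans h.symm); rw [hcc, hcc] at this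
        exact absurd (congrArg Fin.val this) (by simp [f1, o])
  rcases key with h | h | h
  · rcases eq_of_fix_zero h hX hc with h' | h'
    · exact absurd h' hc1
    · exact ⟨o, h'.trans D_o.symm⟩
  · exact ⟨f1, (eq_of_fix_moved X_g7 u1 hX hc h).resolve_left hc1⟩
  · exact ⟨f2, (eq_of_fix_moved (X_z.mul_right X_g7) u2 hX hc h).resolve_left hc1⟩

end CfsgLib.CosetEnum.Fi23.Aut
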