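import Cfsg.Agent.Lib.CosetEnum.Fi23.Aut.Invol
import Cfsg.Agent.Lib.CosetEnum.Fi23.Aut.CheckCount1
import Cfsg.Agent.Lib.CosetEnum.Fi23.Aut.CheckCount2
import Mathlib.GroupTheory.GroupAction.Quotient
import Mathlib.GroupTheory.Sylow
import Cfsg.Prelude.Def_KGroupFacts

set_option autoImplicit false
set_option linter.all false

/-!
Every automorphism of Fi23 is inner.
-/

namespace CfsgLib.CosetEnum.Fi23.Aut

open CfsgLib.CosetEnum CfsgLib.CosetEnum.Fi23

local notation "G" => Cfsg.Spor.Fi23

/-- An automorphism maps the base transposition to a transposition. -/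
theorem exists_D_image (φ : G ≃* G) : ∃ k, φ z = D k := by
  haveI : Finite G := finite
  haveI : Fact (Nat.Prime 13) := ⟨by norm_num⟩
  have hcard : 13 ^ (Nat.card G).factorization 13 = 13 := by
    have h : (Nat.card G).factorization 13 = 1 := by
      rw [card_group, show (4089470473293004800 : ℕ) = 13 * 314574651791769600 from rfl,
        Nat.factorization_mul (by norm_num) (by norm_num), Finsupp.add_apply,
        Nat.Prime.factorization_self (by norm_num), Nat.factorization_eq_zero_of_not_dvd (by norm_num)]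
    rw [h, pow_one]
  let P1 : Sylow 13 G := Sylow.ofCard (Subgroup.zpowers X) (by rw [Nat.card_zpowers, orderOf_X, hcard])
  let P2 : Sylow 13 G := Sylow.ofCard (Subgroup.zpowers (φ X)) (by
    rw [Nat.card_zpowers, MulEquiv.orderOf_eq, orderOf_X, hcard])
  obtain ⟨u, hu⟩ := MulAction.exists_smul_eq G P1 P2
  have hmem : u * X * u⁻¹ ∈ (P2 : Subgroup G) := by
    rw [← hu]
    exact ⟨X, Subgroup.mem_zpowers X, rfl⟩
  obtain ⟨n, hn⟩ := Subgroup.mem_zpowers_iff.mp (show u * X * u⁻¹ ∈ Subgroup.zpowers (φ X) from hmem)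
  have hcomm : Commute (φ z) (u * X * u⁻¹) := by
    rw [← hn]
    exact ((X_z.map φ).symm).zpow_right n
  have hX : Commute X (u⁻¹ * φ z * u) := by
    have h := commute_conj u⁻¹ hcomm.symm
    simpa [mul_assoc] using h
  have hsq : u⁻¹ * φ z * u * (u⁻¹ * φ z * u) = 1 := by
    calc u⁻¹ * φ z * u * (u⁻¹ * φ z * u) = u⁻¹ * (φ z * φ z) * u := by group
      _ = 1 := by rw [← map_mul, z_mul_self, map_one]; group
  have hne : u⁻¹ * φ z * u ≠ 1 := by
    intro h
    refine z_ne_one (φ.injective ?_)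
    rw [map_one]
    calc φ z = u * (u⁻¹ * φ z * u) * u⁻¹ := by group
      _ = 1 := by rw [h]; group
  obtain ⟨k, hk⟩ := exists_D_of_commute hsq hne hX
  refine ⟨π u k, ?_⟩
  rw [← conj_D, ← hk]
  group

/-- An automorphism permutes the transpositions. -/
theorem exists_D_image' (φ : G ≃* G) (p : Pt) : ∃ k, φ (D p) = D k := by
  obtain ⟨k, hk⟩ := exists_D_image φ
  exact ⟨π (φ (T p)) k, by rw [← conj_D, ← hk, D, map_mul, map_mul, map_inv]⟩

/-- The point of the `i`th node in the chosen order. -/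
def bp (i : ℕ) : Pt := ⟨np (ord.getD i 0) % 31671, Nat.mod_lt _ (by norm_num)⟩

theorem ord_lt : ∀ i < 10, ord.getD i 0 < 10 := by decide

theorem bp_val (i : ℕ) (hi : i < 10) : (bp i : ℕ) = np (ord.getD i 0) :=
  Nat.mod_eq_of_lt (node_lt _ (ord_lt i hi))

theorem D_bp (i : ℕ) (hi : i < 10) : D (bp i) = g (ord.getD i 0) :=
  D_node _ (ord_lt i hi) _ (bp_val i hi)

theorem cnt_ok : ∀ i < 10, countB (candB i) 9 0 31671 = cnt.getD i 0 := by
  intro i hi
  interval_cases i
  exacts [cnt_0, cnt_1, cnt_2, cnt_3, cnt_4, cnt_5, cnt_6, cnt_7, cnt_8, cnt_9]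

/-- The candidates for place `i`. -/
def Cand (i : ℕ) (k : Pt) : Prop :=
  ∀ j < i, (Commute (D (bp j)) (D k) ↔ Commute (D (bp j)) (D (bp i))) ∧ k ≠ bp j

theorem card_cand (i : ℕ) (hi : i < 10) : {k : Pt | Cand i k}.ncard ≤ cnt.getD i 0 := by
  classical
  rw [← cnt_ok i hi, countB_eq, Set.ncard_eq_toFinset_card' {k : Pt | Cand i k}]
  calc _ ≤ (Finset.univ.filter fun k : Pt => candB i k = true).card := by
        refine Finset.card_le_card fun k hk => ?_
        rw [Set.mem_toFinset] at hk
        simp only [Finset.mem_filter, Finset.mem_univ, true_and, candB, strict_eq, List.all_eq_true,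
          Bool.and_eq_true, beq_iff_eq, Bool.not_eq_true']
        intro y hy
        obtain ⟨j, hj, rfl⟩ := List.getElem_of_mem hy
        rw [List.length_take] at hj
        rw [List.getElem_take]
        have hji : j < i := lt_of_lt_of_le hj (min_le_left _ _)
        have hjo : j < ord.length := lt_of_lt_of_le hj (min_le_right _ _)
        rw [← List.getD_eq_getElem _ 0 hjo]
        obtain ⟨h1, h2⟩ := hk j hji
        have hj10 : j < 10 := lt_trans hji hi
        rw [D_bp j hj10, comm_iff, comm_iff, Fin.ext_iff, Fin.ext_iff, g_apply _ (lt_trans (ord_lt j hj10) (by norm_num)),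
          g_apply _ (lt_trans (ord_lt j hj10) (by norm_num)), bp_val i hi] at h1
        refine ⟨Bool.eq_iff_iff.mpr ⟨fun h => ?_, fun h => ?_⟩, ?_⟩
        · rw [(h1.mp (Nat.eq_of_beq_eq_true h) : _)]; exact Nat.beq_refl _
        · rw [(h1.mpr (Nat.eq_of_beq_eq_true h) : _)]; exact Nat.beq_refl _
        · by_contra h
          rw [Bool.not_eq_false] at h
          exact h2 (Fin.ext (by rw [bp_val j hj10]; exact Nat.eq_of_beq_eq_true h))
    _ = _ := by
        rw [Finset.card_filter, ← Fin.sum_univ_eq_sum_range (fun i' => if candB i (0 + i') = true then 1 else 0) 31671]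
        simp only [Nat.zero_add]

/-- The pointwise stabiliser of the first `i` base points. -/
def K (i : ℕ) : Subgroup G where
  carrier := {w | ∀ j < i, π w (bp j) = bp j}
  one_mem' := fun j _ => by simp
  mul_mem' := fun {a b} ha hb j hj => by rw [map_mul, Equiv.Perm.mul_apply, hb j hj, ha j hj]
  inv_mem' := fun {a} ha j hj => by rw [map_inv, Equiv.Perm.inv_def, Equiv.symm_apply_eq, ha j hj]

/-- The orbit of the next base point. -/
def Orb (i : ℕ) : Set Pt := {k | ∃ w ∈ K i, π w (bp i) = k}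

theorem orb_sub (i : ℕ) (hi : i < 10) : Orb i ⊆ {k | Cand i k} := by
  rintro _ ⟨w, hw, rfl⟩ j hj
  refine ⟨?_, ?_⟩
  · conv_lhs => rw [← hw j hj]
    exact commute_D_map w _ _
  · intro h
    have h2 : bp i = bp j := (π w).injective (h.trans (hw j hj).symm)
    have key : ∀ i < 10, ∀ j < i, np (ord.getD i 0) ≠ np (ord.getD j 0) := by decide
    exact key i hi j hj (by rw [← bp_val i hi, ← bp_val j (lt_trans hj hi), h2])

theorem card_step (i : ℕ) : Nat.card (K i) = (Orb i).ncard * Nat.card (K (i + 1)) := by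
  haveI : Finite G := finite
  classical
  letI : MulAction (K i) Pt := MulAction.compHom Pt (π.comp (K i).subtype)
  have horb : MulAction.orbit (K i) (bp i) = Orb i := by
    ext k
    exact ⟨fun ⟨⟨w, hw⟩, h⟩ => ⟨w, hw, h⟩, fun ⟨w, hw, h⟩ => ⟨⟨w, hw⟩, h⟩⟩
  have hst : Nat.card (MulAction.stabilizer (K i) (bp i)) = Nat.card (K (i + 1)) := by
    refine Nat.card_congr
      { toFun := fun w => ⟨((w : K i) : G), fun j hj => by
          rcases Nat.lt_succ_iff_lt_or_eq.mp hj with h | h
          · exact (w : K i).2 j h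
          · subst h; exact w.2⟩
        invFun := fun w => ⟨⟨(w : G), fun j hj => w.2 j (Nat.lt_succ_of_lt hj)⟩, w.2 i (Nat.lt_succ_self i)⟩
        left_inv := fun w => rfl
        right_inv := fun w => rfl }
  rw [← horb, ← MulAction.index_stabilizer, ← hst, Subgroup.index_mul_card]

theorem K_ten : K 10 = ⊥ := by
  rw [eq_bot_iff]
  intro w hw
  refine Subgroup.mem_bot.mpr (eq_one_of_nodes fun x hx p hp => ?_)
  obtain ⟨j, hj, rfl⟩ := (by decide : ∀ x < 10, ∃ j < 10, ord.getD j 0 = x) x hx
  rw [show p = bp j from Fin.ext (hp.trans (bp_val j hj).symm)]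
  exact hw j hj

theorem card_G : Nat.card G = ∏ j ∈ Finset.range 10, cnt.getD j 0 := by
  rw [card_group]
  decide

theorem orb_eq (i : ℕ) (hi : i < 10) : Orb i = {k | Cand i k} := by
  haveI : Finite G := finite
  have hle : ∀ j < 10, (Orb j).ncard ≤ cnt.getD j 0 := fun j hj =>
    (Set.ncard_le_ncard (orb_sub j hj)).trans (card_cand j hj)
  have hK : Nat.card G = ∏ j ∈ Finset.range 10, (Orb j).ncard := by
    have h : ∀ m, Nat.card (K 0) = (∏ j ∈ Finset.range m, (Orb j).ncard) * Nat.card (K m) := by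
      intro m
      induction m with
      | zero => simp
      | succ m ih => rw [ih, Finset.prod_range_succ, card_step m, mul_assoc]
    have h0 : K 0 = ⊤ := eq_top_iff.mpr fun w _ j hj => absurd hj (Nat.not_lt_zero j)
    rw [← Subgroup.card_top, ← h0, h 10, K_ten, Subgroup.card_bot, mul_one]
  refine Set.eq_of_subset_of_ncard_le (orb_sub i hi) ((card_cand i hi).trans ?_)
  by_contra hlt
  rw [not_le] at hlt
  have hpos : ∀ j ∈ Finset.range 10, 0 < (Orb j).ncard := fun j _ =>
    (Set.ncard_pos (Set.toFinite _)).mpr ⟨bp j, 1, (K j).one_mem, by simp⟩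
  have h := Finset.prod_lt_prod hpos (fun j hj => hle j (Finset.mem_range.mp hj))
    ⟨i, Finset.mem_range.mpr hi, hlt⟩
  rw [← hK, ← card_G] at h
  exact lt_irrefl _ h

theorem exists_conj (q : ℕ → Pt) (hpat : ∀ i < 10, ∀ j < i,
    (Commute (D (q j)) (D (q i)) ↔ Commute (D (bp j)) (D (bp i))) ∧ q i ≠ q j) :
    ∀ m ≤ 10, ∃ u : G, ∀ j < m, π u (bp j) = q j := by
  intro m
  induction m with
  | zero => exact fun _ => ⟨1, fun j hj => absurd hj (Nat.not_lt_zero j)⟩
  | succ m ih =>
    intro hm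
    obtain ⟨u, hu⟩ := ih (by omega)
    have hc : π u⁻¹ (q m) ∈ {k | Cand m k} := by
      intro j hj
      obtain ⟨h1, h2⟩ := hpat m (by omega) j hj
      have hj' : π u⁻¹ (q j) = bp j := by rw [map_inv, Equiv.Perm.inv_def, Equiv.symm_apply_eq, hu j hj]
      refine ⟨?_, fun h => h2 ((π u⁻¹).injective (h.trans hj'.symm))⟩
      rw [← h1, ← commute_D_map u⁻¹ (q j) (q m), hj']
    rw [← orb_eq m (by omega)] at hc
    obtain ⟨w, hw, hwq⟩ := hc
    refine ⟨u * w, fun j hj => ?_⟩
    rw [map_mul, Equiv.Perm.mul_apply]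
    rcases Nat.lt_succ_iff_lt_or_eq.mp hj with h | h
    · rw [hw j h, hu j h]
    · subst h
      rw [hwq, map_inv, ← Equiv.Perm.mul_apply, mul_inv_cancel, Equiv.Perm.one_apply]

theorem inner (φ : MulAut G) : φ ∈ Cfsg.Inn G := by
  choose q hq using fun i => exists_D_image' φ (bp i)
  have hcommute : ∀ a b : G, Commute (φ a) (φ b) ↔ Commute a b := fun a b =>
    ⟨fun h => φ.injective (by rw [map_mul, map_mul]; exact h.eq), fun h => h.map φ⟩
  obtain ⟨u, hu⟩ := exists_conj q (fun i hi j hj => by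
    refine ⟨by rw [← hq, ← hq, hcommute], fun h => ?_⟩
    have h2 : φ (D (bp i)) = φ (D (bp j)) := by rw [hq, hq, h]
    have h3 := congrArg Fin.val (D_injective (φ.injective h2))
    rw [bp_val i hi, bp_val j (lt_trans hj hi)] at h3
    have key : ∀ i < 10, ∀ j < i, np (ord.getD i 0) ≠ np (ord.getD j 0) := by decide
    exact key i hi j hj h3) 10 le_rfl
  refine ⟨u, ?_⟩
  refine MulEquiv.ext fun w => ?_
  have hle : (⊤ : Subgroup G) ≤ (MulAut.conj u).toMonoidHom.eqLocus φ.toMonoidHom := by
    refine translation.closure_top.trans ((Subgroup.closure_le _).mpr ?_)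
    rintro _ ⟨x, hx, rfl⟩
    show u * g x * u⁻¹ = φ (g x)
    rcases gen_or_one x hx with h | h
    · obtain ⟨j, hj, rfl⟩ := (by decide : ∀ x < 10, ∃ j < 10, ord.getD j 0 = x) x h
      rw [← D_bp j hj, conj_D, hu j hj, ← hq]
    · rw [h, map_one]; group
  exact hle (Subgroup.mem_top w)

theorem card_out : Nat.card (Cfsg.Out G) = 1 := by
  haveI : Subsingleton (Cfsg.Out G) := ⟨fun a b => by
    induction a using QuotientGroup.induction_on with | H a => ?_
    induction b using QuotientGroup.induction_on with | H b => ?_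
    exact QuotientGroup.eq.mpr (inner _)⟩
  exact Nat.card_unique

end CfsgLib.CosetEnum.Fi23.Aut
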